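import Mathlib
import Cfsg.Agent.Lib.OddOrder38.Conj14
import Cfsg.Agent.Lib.OddOrder41.FixedFormula

/-!
# General group-theoretic lemmas for BG §16
-/

set_option autoImplicit false

namespace CfsgLib.OddOrder42

open Subgroup CfsgLib.OddOrder CfsgLib.OddOrder.Transitivity

universe u

variable {G : Type u} [Group G]

/-! ### Complements -/

theorem complIn_symm {A B M : Subgroup G} (h : Cfsg.IsComplIn A B M) : Cfsg.IsComplIn B A M := by
  refine ⟨h.2.1, h.1, inf_comm B A ▸ h.2.2.1, fun m hm => ?_⟩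
  obtain ⟨a, ha, b, hb, he⟩ := h.2.2.2 m⁻¹ (M.inv_mem hm)
  exact ⟨b⁻¹, inv_mem hb, a⁻¹, inv_mem ha, by rw [← inv_inv m, he, mul_inv_rev]⟩

theorem complIn_card {A B M : Subgroup G} (h : Cfsg.IsComplIn A B M) :
    Nat.card A * Nat.card B = Nat.card M := by
  rw [← Nat.card_congr (Subgroup.subgroupOfEquivOfLe h.1).toEquiv,
    ← Nat.card_congr (Subgroup.subgroupOfEquivOfLe h.2.1).toEquiv]
  exact (IsComplIn.isComplement' h).card_mul_card

theorem complIn_of_card [Finite G] {A B M : Subgroup G} (hA : A ≤ M) (hB : B ≤ M) (hinf : A ⊓ B = ⊥)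
    (hc : Nat.card A * Nat.card B = Nat.card M) : Cfsg.IsComplIn A B M := by
  have h : Subgroup.IsComplement' (A.subgroupOf M) (B.subgroupOf M) := by
    refine Subgroup.isComplement'_of_card_mul_and_disjoint ?_ ?_
    · rw [Nat.card_congr (Subgroup.subgroupOfEquivOfLe hA).toEquiv,
        Nat.card_congr (Subgroup.subgroupOfEquivOfLe hB).toEquiv]
      exact hc
    · rw [disjoint_iff, eq_bot_iff]
      intro x hx
      have h1 : (x : G) ∈ A ⊓ B := Subgroup.mem_inf.mpr ⟨(Subgroup.mem_inf.mp hx).1, (Subgroup.mem_inf.mp hx).2⟩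
      rw [hinf, Subgroup.mem_bot] at h1
      exact Subgroup.mem_bot.mpr (Subtype.ext h1)
  refine ⟨hA, hB, hinf, fun m hm => ?_⟩
  obtain ⟨⟨⟨a, ha⟩, ⟨b, hb⟩⟩, hab⟩ := h.2 ⟨m, hm⟩
  exact ⟨a, ha, b, hb, (congrArg Subtype.val hab).symm⟩

/-- A subgroup normalizing the right factor gives `M = A ⊔ B`. -/
theorem complIn_sup {A B M : Subgroup G} (h : Cfsg.IsComplIn A B M) : A ⊔ B = M := by
  refine le_antisymm (sup_le h.1 h.2.1) fun m hm => ?_
  obtain ⟨a, ha, b, hb, rfl⟩ := h.2.2.2 m hm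
  exact Subgroup.mul_mem_sup ha hb

theorem complIn_cj {A B M : Subgroup G} (h : Cfsg.IsComplIn A B M) (g : G) :
    Cfsg.IsComplIn (cj g A) (cj g B) (cj g M) := by
  refine ⟨cj_mono h.1, cj_mono h.2.1, ?_, ?_⟩
  · rw [← Subgroup.map_inf _ _ _ (MulAut.conj g).injective, h.2.2.1, Subgroup.map_bot]
  · rintro _ ⟨m, hm, rfl⟩
    obtain ⟨a, ha, b, hb, rfl⟩ := h.2.2.2 m hm
    exact ⟨_, ⟨a, ha, rfl⟩, _, ⟨b, hb, rfl⟩, map_mul _ a b⟩

theorem coprime_of_forall {m n : ℕ} (h : ∀ p : ℕ, p.Prime → p ∣ m → p ∣ n → False) : m.Coprime n :=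
  Nat.coprime_of_dvd fun p hp h1 h2 => h p hp h1 h2

theorem piHallOf_coprime {π : Set ℕ} {H M : Subgroup G} (h : Cfsg.IsPiHallOf π H M) :
    (Nat.card H).Coprime (H.relIndex M) :=
  coprime_of_forall fun p hp h1 h2 => h.2.2 p hp (h.2.1 p hp h1) h2

theorem piHallOf_cj {π : Set ℕ} {H M : Subgroup G} (h : Cfsg.IsPiHallOf π H M) {g : G} (hg : g ∈ M) :
    Cfsg.IsPiHallOf π (cj g H) M := by
  have hM : cj g M = M := cj_eq_of_mem_normalizer (Subgroup.le_normalizer hg)
  refine ⟨(cj_mono h.1).trans hM.le, fun p hp hd => h.2.1 p hp (by rwa [card_cj] at hd),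
    fun p hp hpπ hd => h.2.2 p hp hpπ ?_⟩
  have h1 : (cj g H).relIndex (cj g M) = H.relIndex M :=
    Subgroup.relIndex_map_map_of_injective _ _ (MulAut.conj g).injective
  rw [hM] at h1
  rwa [h1] at hd

theorem inf_eq_bot_of_piNat [Finite G] {π : Set ℕ} {A B : Subgroup G} (hA : PiNat π (Nat.card A))
    (hB : ∀ p : ℕ, p.Prime → p ∣ Nat.card B → p ∉ π) : A ⊓ B = ⊥ :=
  (Subgroup.disjoint_of_coprime_natCard (coprime_of_forall fun p hp h1 h2 => hB p hp h2 (hA p hp h1))).eq_bot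

/-- Complements of a normal subgroup of coprime order are conjugate. -/
theorem exists_conj_complIn [Finite G] {N A B L : Subgroup G} [Group.IsSolvable L]
    (hA : Cfsg.IsComplIn N A L) (hB : Cfsg.IsComplIn N B L) (hc : (Nat.card N).Coprime (Nat.card A)) :
    ∃ g ∈ L, cj g A = B := by
  have hcard : Nat.card A = Nat.card B :=
    Nat.eq_of_mul_eq_mul_left Nat.card_pos ((complIn_card hA).trans (complIn_card hB).symm)
  have hidx : B.relIndex L = Nat.card N := IsComplIn.relIndex_left (complIn_symm hB)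
  obtain ⟨g, hg, hle⟩ := OddOrder41.exists_conj_into (π := {r | r ∣ Nat.card A}) hB.2.1
    (fun r hr hrA hd => hr.ne_one (Nat.eq_one_of_dvd_coprimes hc (hidx ▸ hd) hrA)) hA.2.1
    (fun r _ hd => hd)
  exact ⟨g, hg, Subgroup.eq_of_le_of_card_ge hle (by rw [card_cj, hcard])⟩

/-- An element of a `π`-group generated by a commuting `π`-part and `π'`-part. -/
theorem exists_parts [Finite G] (π : Set ℕ) (g : G) :
    ∃ a b : G, g = a * b ∧ a ∈ Subgroup.zpowers g ∧ b ∈ Subgroup.zpowers g ∧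
      (∀ p : ℕ, p.Prime → p ∣ orderOf a → p ∈ π) ∧ ∀ p : ℕ, p.Prime → p ∣ orderOf b → p ∉ π := by
  classical
  have h0 : orderOf g ≠ 0 := (orderOf_pos g).ne'
  set n₁ := ∏ p ∈ (orderOf g).primeFactors with p ∈ π, p ^ (orderOf g).factorization p with h1
  set n₂ := ∏ p ∈ (orderOf g).primeFactors with ¬ p ∈ π, p ^ (orderOf g).factorization p with h2
  have hmul : n₁ * n₂ = orderOf g := by
    rw [h1, h2, Finset.prod_filter_mul_prod_filter_not]
    exact Nat.prod_factorization_pow_eq_self h0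
  have hpos : 0 < n₁ * n₂ := hmul ▸ orderOf_pos g
  have key : ∀ (P : ℕ → Prop) [DecidablePred P] (q : ℕ), q.Prime →
      q ∣ (∏ p ∈ (orderOf g).primeFactors with P p, p ^ (orderOf g).factorization p) → P q := by
    intro P _ q hq hd
    obtain ⟨p, hp, hqp⟩ := (hq.prime.dvd_finsetProd_iff _).mp hd
    have hp' := Finset.mem_filter.mp hp
    rw [(Nat.prime_dvd_prime_iff_eq hq (Nat.prime_of_mem_primeFactors hp'.1)).mp
      (hq.dvd_of_dvd_pow hqp)]
    exact hp'.2
  have hcop : Nat.Coprime n₁ n₂ := coprime_of_forall fun q hq d1 d2 => key (fun p => ¬ p ∈ π) q hq d2 (key (fun p => p ∈ π) q hq d1)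
  obtain ⟨u, v, huv⟩ : ∃ u v : ℤ, (n₁ : ℤ) * u + (n₂ : ℤ) * v = 1 := by
    refine ⟨Nat.gcdA n₁ n₂, Nat.gcdB n₁ n₂, ?_⟩
    rw [← Nat.gcd_eq_gcd_ab, Nat.coprime_iff_gcd_eq_one.mp hcop, Nat.cast_one]
  refine ⟨g ^ ((n₂ : ℤ) * v), g ^ ((n₁ : ℤ) * u), ?_, ⟨_, rfl⟩, ⟨_, rfl⟩, fun q hq hd => ?_,
    fun q hq hd => ?_⟩
  · rw [← zpow_add, add_comm, huv, zpow_one]
  · refine key (fun p => p ∈ π) q hq (hd.trans (orderOf_dvd_of_pow_eq_one ?_))
    rw [← zpow_natCast, ← zpow_mul, show ((n₂ : ℤ) * v) * (n₁ : ℤ) = ((n₁ * n₂ : ℕ) : ℤ) * v by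
      push_cast; ring, zpow_mul, zpow_natCast, hmul, pow_orderOf_eq_one, one_zpow]
  · refine key (fun p => ¬ p ∈ π) q hq (hd.trans (orderOf_dvd_of_pow_eq_one ?_))
    rw [← zpow_natCast, ← zpow_mul, show ((n₁ : ℤ) * u) * (n₂ : ℤ) = ((n₁ * n₂ : ℕ) : ℤ) * u by
      push_cast; ring, zpow_mul, zpow_natCast, hmul, pow_orderOf_eq_one, one_zpow]

/-- A group `Q⟨c⟩` of order `q r` in which `c` moves `Q` has a fixed point on every nontrivial
solvable group of coprime order on which it acts. -/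
theorem eq_bot_of_fpf_pair [Finite G] {q r : ℕ} [hq : Fact q.Prime] [hr : Fact r.Prime]
    (hqr : q ≠ r) {Q V : Subgroup G} (hQ : Nat.card Q = q) {c : G} (hc : orderOf c = r)
    (hcQ : c ∈ Subgroup.normalizer (Q : Set G)) (hne : ¬ Q ≤ Subgroup.centralizer ({c} : Set G))
    (hQV : Q ≤ Subgroup.normalizer (V : Set G)) (hcV : c ∈ Subgroup.normalizer (V : Set G))
    (hs : Group.IsSolvable V) (hqV : ¬ q ∣ Nat.card V) (hrV : ¬ r ∣ Nat.card V)
    (hCQ : V ⊓ Subgroup.centralizer (Q : Set G) = ⊥)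
    (hCc : V ⊓ Subgroup.centralizer ({c} : Set G) = ⊥) : V = ⊥ := by
  set E := Subgroup.zpowers c with hE
  have hEc : Nat.card E = r := by rw [hE, Nat.card_zpowers, hc]
  have hE1 : E ≠ ⊥ := fun h => hr.out.ne_one (by rw [← hEc, h, Subgroup.card_bot])
  have hEQ : E ≤ Subgroup.normalizer (Q : Set G) := Subgroup.zpowers_le.mpr hcQ
  have hcop : (Nat.card Q).Coprime (Nat.card E) := by
    rw [hQ, hEc]; exact (Nat.coprime_primes hq.out hr.out).mpr hqr
  have hfpf : ∀ e ∈ E, e ≠ 1 → ∀ u ∈ Q, e * u = u * e → u = 1 := by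
    intro e he he1 u hu heu
    by_contra hu1
    refine hne fun w hw => ?_
    have hgen : Subgroup.zpowers u = Q := by
      refine Subgroup.eq_of_le_of_card_ge (Subgroup.zpowers_le.mpr hu) ?_
      rw [hQ, Nat.card_zpowers]
      have h1 := hQ ▸ Subgroup.orderOf_dvd_natCard Q hu
      exact ((Nat.dvd_prime hq.out).mp h1).resolve_left (fun h => hu1 (orderOf_eq_one_iff.mp h)) ▸ le_rfl
    have hgenc : Subgroup.zpowers e = E := by
      refine Subgroup.eq_of_le_of_card_ge (Subgroup.zpowers_le.mpr he) ?_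
      rw [hEc, Nat.card_zpowers]
      have h1 := hEc ▸ Subgroup.orderOf_dvd_natCard E he
      exact ((Nat.dvd_prime hr.out).mp h1).resolve_left (fun h => he1 (orderOf_eq_one_iff.mp h)) ▸ le_rfl
    obtain ⟨i, rfl⟩ := Subgroup.mem_zpowers_iff.mp (hgen.ge hw)
    obtain ⟨j, hj⟩ := Subgroup.mem_zpowers_iff.mp (hgenc.ge (Subgroup.mem_zpowers c))
    rw [Subgroup.mem_centralizer_singleton_iff, ← hj]
    exact ((show Commute u e from heu.symm).zpow_zpow i j).eq
  have hdvd : Nat.card ↥(Q ⊔ E) ∣ q * r := by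
    rw [sup_comm]
    exact (Coprime.card_sup_dvd hEQ).trans (by rw [hQ, hEc, mul_comm])
  have h := OddOrder41.FixedFormula.fixed_formula Q E hE1 hEQ hcop hfpf V
    (sup_le hQV (Subgroup.zpowers_le.mpr hcV)) hs
    (Nat.Coprime.coprime_dvd_right hdvd (Nat.Coprime.mul_right
      ((hq.out.coprime_iff_not_dvd.mpr hqV).symm) ((hr.out.coprime_iff_not_dvd.mpr hrV).symm)))
  have hbot : V ⊓ Subgroup.centralizer ((Q ⊔ E : Subgroup G) : Set G) = ⊥ := le_bot_iff.mp
    (hCQ ▸ inf_le_inf le_rfl (Subgroup.centralizer_le (SetLike.coe_subset_coe.mpr le_sup_left)))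
  rw [hE, OddOrder41.centralizer_zpowers, hCc] at h
  rw [hE] at hbot
  rw [hbot, hCQ, Subgroup.card_bot, one_pow, one_mul, one_mul] at h
  exact Subgroup.card_eq_one.mp h

/-- Transfer: a central element of the derived group lying in an abelian Sylow subgroup is trivial. -/
theorem eq_one_of_central_derived {U : Type u} [Group U] [Finite U] {p : ℕ} [hp : Fact p.Prime]
    (P : Sylow p U) (hab : IsMulCommutative (P : Subgroup U)) {z : U} (hzP : z ∈ (P : Subgroup U))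
    (hzc : z ∈ Subgroup.center U) (hz' : z ∈ commutator U) : z = 1 := by
  letI : CommGroup (P : Subgroup U) :=
    { (inferInstance : Group (P : Subgroup U)) with mul_comm := fun a b => hab.is_comm.comm a b }
  have hT := MonoidHom.transfer_eq_pow (MonoidHom.id (P : Subgroup U)) z fun k g₀ h => by
    rw [Subgroup.mem_center_iff.mp ((Subgroup.center U).pow_mem hzc k) g₀⁻¹, mul_assoc,
      inv_mul_cancel, mul_one]
  have h1 : MonoidHom.transfer (MonoidHom.id (P : Subgroup U)) z = 1 :=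
    MonoidHom.mem_ker.mp (Abelianization.commutator_subset_ker _ hz')
  rw [h1] at hT
  have h2 : z ^ (P : Subgroup U).index = 1 := (congrArg Subtype.val hT).symm
  obtain ⟨k, hk⟩ := P.isPGroup' ⟨z, hzP⟩
  have h3 : z ^ p ^ k = 1 := congrArg Subtype.val hk
  have hc : Nat.Coprime (p ^ k) (P : Subgroup U).index :=
    (hp.out.coprime_iff_not_dvd.mpr P.not_dvd_index).pow_left k
  exact orderOf_eq_one_iff.mp (Nat.eq_one_of_dvd_coprimes hc (orderOf_dvd_of_pow_eq_one h3)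
    (orderOf_dvd_of_pow_eq_one h2))

end CfsgLib.OddOrder42
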