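import Mathlib
import Cfsg.Agent.Lib.OddOrder42.Props16
import Cfsg.Agent.Lib.OddOrder42.Group16

/-!
# The standard factorisation `M = K U M_σ`
-/

set_option autoImplicit false
set_option linter.unusedSectionVars false
set_option linter.unusedVariables false

namespace CfsgLib.OddOrder42

open Subgroup CfsgLib.OddOrder CfsgLib.OddOrder.Transitivity CfsgLib.OddOrder38

universe u

variable {G : Type u} [Group G] [Finite G]

theorem kappa_dvd {M : Subgroup G} {p : ℕ} (h : p ∈ Cfsg.kappa M) : p ∣ Nat.card M := h.2.1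

theorem kappa_prime {M : Subgroup G} {p : ℕ} (h : p ∈ Cfsg.kappa M) : p.Prime := h.1

theorem sigma_piNat (M : Subgroup G) : PiNat (Cfsg.sigma M) (Nat.card (Cfsg.sigmaCore M)) :=
  piNat_card_piCoreOf (Cfsg.sigma M) M

theorem sigma_hall (hG : Cfsg.IsMinSimpleOddOrder G) {M : Subgroup G} (hM : IsCoatom M) :
    Cfsg.IsPiHallOf (Cfsg.sigma M) (Cfsg.sigmaCore M) M :=
  (Sigma10.sigmaCore_hall hG hM).1

omit [Finite G] in
theorem le_normalizer_sigmaCore (M : Subgroup G) :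
    M ≤ Subgroup.normalizer (Cfsg.sigmaCore M : Set G) :=
  piCoreOf_normal _ _

theorem kappa_nonempty_of_hall {M K : Subgroup G} (hK : Cfsg.IsPiHallOf (Cfsg.kappa M) K M)
    (hK1 : K ≠ ⊥) : (Cfsg.kappa M).Nonempty := by
  obtain ⟨p, hp, hd⟩ := Nat.exists_prime_and_dvd (n := Nat.card K) fun h => hK1 (Subgroup.card_eq_one.mp h)
  exact ⟨p, hK.2.1 p hp hd⟩

theorem hall_ne_bot_of_kappa {M K : Subgroup G} (hK : Cfsg.IsPiHallOf (Cfsg.kappa M) K M)
    (h : (Cfsg.kappa M).Nonempty) : K ≠ ⊥ := by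
  rintro rfl
  obtain ⟨p, hp⟩ := h
  exact hK.2.2 p hp.1 hp (by rw [Subgroup.relIndex_bot_left]; exact hp.2.1)

theorem kappa_eq_empty_iff {M K : Subgroup G} (hK : Cfsg.IsPiHallOf (Cfsg.kappa M) K M) :
    Cfsg.kappa M = ∅ ↔ K = ⊥ := by
  constructor
  · intro h
    by_contra hK1
    obtain ⟨p, hp⟩ := kappa_nonempty_of_hall hK hK1
    rw [h] at hp
    exact hp
  · intro h
    by_contra hne
    exact hall_ne_bot_of_kappa hK (Set.nonempty_iff_ne_empty.mpr hne) h

variable {M : Subgroup G}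

theorem card_sup_hall {K : Subgroup G} (hK : Cfsg.IsPiHallOf (Cfsg.kappa M) K M) :
    Nat.card ↥(K ⊔ Cfsg.sigmaCore M) = Nat.card K * Nat.card (Cfsg.sigmaCore M) := by
  refine CfsgLib.Coprime.card_sup_of_disjoint (hK.1.trans (le_normalizer_sigmaCore M)) ?_
  exact inf_eq_bot_of_piNat (π := Cfsg.sigma M) (sigma_piNat M)
    fun p hp hd => (hK.2.1 p hp hd).2.2.1

/-- The order of the complement `U`. -/
theorem decomp_card {K U : Subgroup G} (hKU : Cfsg.IsSigmaDecomposition M K U) :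
    Nat.card U * (Nat.card K * Nat.card (Cfsg.sigmaCore M)) = Nat.card M := by
  rw [← card_sup_hall hKU.hall]
  exact complIn_card hKU.compl

theorem decomp_coprime (hG : Cfsg.IsMinSimpleOddOrder G) (hM : IsCoatom M) {K U : Subgroup G}
    (hKU : Cfsg.IsSigmaDecomposition M K U) :
    (Nat.card K).Coprime (Nat.card U * Nat.card (Cfsg.sigmaCore M)) := by
  have h := piHallOf_coprime hKU.hall
  have h1 : Nat.card K * K.relIndex M = Nat.card M := card_mul_relIndex_of_le hKU.hall.1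
  have h2 := decomp_card hKU
  have h3 : K.relIndex M = Nat.card U * Nat.card (Cfsg.sigmaCore M) :=
    Nat.eq_of_mul_eq_mul_left Nat.card_pos (h1.trans (h2.symm.trans (by ring)))
  rwa [h3] at h

theorem decomp_U_piNat (hG : Cfsg.IsMinSimpleOddOrder G) (hM : IsCoatom M) {K U : Subgroup G}
    (hKU : Cfsg.IsSigmaDecomposition M K U) :
    PiNat {q | q.Prime ∧ q ∉ Cfsg.kappa M ∧ q ∉ Cfsg.sigma M} (Nat.card U) := by
  intro p hp hd
  refine ⟨hp, fun hκ => ?_, fun hσ => ?_⟩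
  · refine hKU.hall.2.2 p hp hκ ?_
    have h1 : Nat.card K * K.relIndex M = Nat.card M := card_mul_relIndex_of_le hKU.hall.1
    have h3 : K.relIndex M = Nat.card U * Nat.card (Cfsg.sigmaCore M) :=
      Nat.eq_of_mul_eq_mul_left Nat.card_pos (h1.trans ((decomp_card hKU).symm.trans (by ring)))
    exact h3 ▸ hd.mul_right _
  · refine (sigma_hall hG hM).2.2 p hp hσ ?_
    have h1 : Nat.card (Cfsg.sigmaCore M) * (Cfsg.sigmaCore M).relIndex M = Nat.card M :=
      card_mul_relIndex_of_le (piCoreOf_le _ _)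
    have h3 : (Cfsg.sigmaCore M).relIndex M = Nat.card U * Nat.card K :=
      Nat.eq_of_mul_eq_mul_left Nat.card_pos (h1.trans ((decomp_card hKU).symm.trans (by ring)))
    exact h3 ▸ hd.mul_right _

theorem decomp_conj {K U : Subgroup G} (hKU : Cfsg.IsSigmaDecomposition M K U) {m : G} (hm : m ∈ M) :
    Cfsg.IsSigmaDecomposition M (cj m K) (cj m U) := by
  have hMm : cj m M = M := cj_eq_of_mem_normalizer (Subgroup.le_normalizer hm)
  have hSm : cj m (Cfsg.sigmaCore M) = Cfsg.sigmaCore M :=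
    cj_eq_of_mem_normalizer (le_normalizer_sigmaCore M hm)
  refine ⟨?_, piHallOf_cj hKU.hall hm, ?_, ?_⟩
  · have := hKU.cyclic
    exact isCyclic_of_surjective (cjEquiv m K) (cjEquiv m K).surjective
  · have h := complIn_cj hKU.compl m
    rwa [hMm, show cj m (K ⊔ Cfsg.sigmaCore M) = cj m K ⊔ cj m (Cfsg.sigmaCore M) from
      Subgroup.map_sup _ _ _, hSm] at h
  · exact (cj_mono hKU.normal).trans (OddOrder41.cj_normalizer m U).le

variable (hG : Cfsg.IsMinSimpleOddOrder G) (hI : Inputs G) (hM : IsCoatom M)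

include hG hI hM in
/-- A standard factorisation with prescribed `K`. -/
theorem exists_decomp_of_hall {K : Subgroup G} (hK : Cfsg.IsPiHallOf (Cfsg.kappa M) K M) :
    ∃ U : Subgroup G, Cfsg.IsSigmaDecomposition M K U := by
  have hKc : IsCyclic K := (hI.kappaCyclic M hM).2 K hK
  by_cases hK1 : K = ⊥
  · subst hK1
    obtain ⟨E, hE⟩ := OddOrder41.exists_compl hG hM
    exact ⟨E, hKc, hK, by rw [bot_sup_eq]; exact hE, bot_le⟩
  obtain ⟨-, ⟨U, -, hU, hKn, -⟩, -⟩ := hI.kappaHall M hM K hK hK1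
  refine ⟨U, hKc, hK, ?_, hKn⟩
  have hS := sigma_hall hG hM
  set B := K ⊔ Cfsg.sigmaCore M with hB
  have hBM : B ≤ M := sup_le hK.1 hS.1
  have hBc : PiNat (Cfsg.kappa M ∪ Cfsg.sigma M) (Nat.card B) := by
    rw [card_sup_hall hK]
    exact (PiNat.mono hK.2.1 Set.subset_union_left).mul (PiNat.mono hS.2.1 Set.subset_union_right)
  have hBi : ∀ p : ℕ, p.Prime → p ∣ B.relIndex M → p ∉ Cfsg.kappa M ∧ p ∉ Cfsg.sigma M := by
    intro p hp hd
    refine ⟨fun h => hK.2.2 p hp h ?_, fun h => hS.2.2 p hp h ?_⟩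
    · rw [← Subgroup.relIndex_mul_relIndex K B M le_sup_left hBM]; exact hd.mul_left _
    · rw [← Subgroup.relIndex_mul_relIndex (Cfsg.sigmaCore M) B M le_sup_right hBM]; exact hd.mul_left _
  have hinf : U ⊓ B = ⊥ := inf_eq_bot_of_piNat hU.2.1 fun p hp hd h => by
    rcases hBc p hp hd with h' | h'
    · exact h.2.1 h'
    · exact h.2.2 h'
  refine complIn_of_card hU.1 hBM hinf ?_
  have h1 : Nat.card U * U.relIndex M = Nat.card B * B.relIndex M :=
    (card_mul_relIndex_of_le hU.1).trans (card_mul_relIndex_of_le hBM).symm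
  have hc1 : (Nat.card U).Coprime (Nat.card B) := coprime_of_forall fun p hp d1 d2 => by
    rcases hBc p hp d2 with h' | h'
    · exact (hU.2.1 p hp d1).2.1 h'
    · exact (hU.2.1 p hp d1).2.2 h'
  have hc2 : (B.relIndex M).Coprime (U.relIndex M) := coprime_of_forall fun p hp d1 d2 =>
    hU.2.2 p hp ⟨hp, hBi p hp d1⟩ d2
  have he : Nat.card U = B.relIndex M := Nat.dvd_antisymm (hc1.dvd_of_dvd_mul_left ⟨_, h1.symm⟩)
    (hc2.dvd_of_dvd_mul_right ⟨Nat.card B, by rw [h1, mul_comm]⟩)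
  rw [he, mul_comm]
  exact card_mul_relIndex_of_le hBM

include hG hI hM in
theorem exists_decomp : ∃ K U : Subgroup G, Cfsg.IsSigmaDecomposition M K U := by
  obtain ⟨K, hK⟩ := (hI.kappaCyclic M hM).1
  obtain ⟨U, hU⟩ := exists_decomp_of_hall hG hI hM hK
  exact ⟨K, U, hU⟩

variable {K U : Subgroup G} (hKU : Cfsg.IsSigmaDecomposition M K U)

include hG hM hKU in
theorem decomp_U_inf_sigmaCore : Cfsg.sigmaCore M ⊓ U = ⊥ :=
  inf_eq_bot_of_piNat (π := Cfsg.sigma M) (sigma_piNat M)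
    fun p hp hd => (decomp_U_piNat hG hM hKU p hp hd).2.2

include hG hM hKU in
theorem decomp_card_sup : Nat.card ↥(U ⊔ Cfsg.sigmaCore M) = Nat.card U * Nat.card (Cfsg.sigmaCore M) :=
  CfsgLib.Coprime.card_sup_of_disjoint (hKU.compl.1.trans (le_normalizer_sigmaCore M))
    (decomp_U_inf_sigmaCore hG hM hKU)

include hG hI hM hKU in
theorem derived_eq (hK1 : K ≠ ⊥) : ⁅M, M⁆ = U ⊔ Cfsg.sigmaCore M :=
  (hI.derived M hM K U hKU hK1).1

include hG hI hM hKU in
theorem coprime_derived (hK1 : K ≠ ⊥) : (Nat.card K).Coprime (Nat.card ↥⁅M, M⁆) := by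
  rw [derived_eq hG hI hM hKU hK1, decomp_card_sup hG hM hKU]
  exact decomp_coprime hG hM hKU

include hG hI hM hKU in
/-- `K` is a complement of `M'` in `M`. -/
theorem derived_compl (hK1 : K ≠ ⊥) : Cfsg.IsComplIn ⁅M, M⁆ K M := by
  refine complIn_of_card (Subgroup.commutator_le_self M) hKU.hall.1
    (Subgroup.disjoint_of_coprime_natCard (coprime_derived hG hI hM hKU hK1).symm).eq_bot ?_
  rw [derived_eq hG hI hM hKU hK1, decomp_card_sup hG hM hKU, ← decomp_card hKU]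
  ring

include hG hI hM hKU in
/-- `U` is a complement of `M_σ` in `M'`. -/
theorem derived_compl_U (hK1 : K ≠ ⊥) : Cfsg.IsComplIn (Cfsg.sigmaCore M) U ⁅M, M⁆ := by
  have h := derived_eq hG hI hM hKU hK1
  refine complIn_of_card (h ▸ le_sup_right) (h ▸ le_sup_left) (decomp_U_inf_sigmaCore hG hM hKU) ?_
  rw [h, decomp_card_sup hG hM hKU, mul_comm]

include hG hI hM hKU in
theorem sigmaCore_eq_derived_of_bot (hK1 : K ≠ ⊥) (hU : U = ⊥) : ⁅M, M⁆ = Cfsg.sigmaCore M := by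
  rw [derived_eq hG hI hM hKU hK1, hU, bot_sup_eq]

include hG hI hM hKU in
/-- With `K = 1` the group `U` is nontrivial. -/
theorem U_ne_bot_of_bot (hK : K = ⊥) : U ≠ ⊥ := by
  intro hU
  have h := hI.core M hM
  have he : M = Cfsg.sigmaCore M :=
    (complIn_sup hKU.compl).symm.trans (by rw [hK, hU, bot_sup_eq, bot_sup_eq])
  exact h.2.2.2.1.ne (le_antisymm (Subgroup.commutator_le_self M) (he.le.trans h.2.2.1))

include hG hI hM hKU in
/-- With `U ≠ 1` one has `M_F = M_σ`. -/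
theorem fittingHallOf_eq (hU : U ≠ ⊥) : Cfsg.fittingHallOf M = Cfsg.sigmaCore M := by
  by_contra h
  exact hU (hI.notNilpotent M hM K U hKU h).1

include hG hI hM hKU in
theorem kstar_props (hK1 : K ≠ ⊥) :
    IsCyclic ↥(Cfsg.sigmaCore M ⊓ Subgroup.centralizer (K : Set G)) ∧
      (Cfsg.sigmaCore M ⊓ Subgroup.centralizer (K : Set G)) ≠ ⊥ ∧
      (Cfsg.sigmaCore M ⊓ Subgroup.centralizer (K : Set G)) ≤ Cfsg.fittingHallOf M ∧
      ¬ IsCyclic (Cfsg.fittingHallOf M) :=
  hI.kStar M hM K U hKU hK1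

include hG hI hM hKU in
/-- `C_{M'}(x) = K*` for `x ∈ K` different from `1`. -/
theorem derived_centralizer (hK1 : K ≠ ⊥) {x : G} (hx : x ∈ K) (hx1 : x ≠ 1) :
    ⁅M, M⁆ ⊓ Subgroup.centralizer ({x} : Set G) =
      Cfsg.sigmaCore M ⊓ Subgroup.centralizer (K : Set G) := by
  refine le_antisymm (fun d hd => ?_) (le_inf (inf_le_left.trans ?_) (inf_le_right.trans ?_))
  · obtain ⟨Mstar, ⟨hMs, hKst, hKstH⟩, -⟩ := hI.partner M hM K U hKU hK1
    obtain ⟨y, hy, hy1⟩ := (Subgroup.bot_or_exists_ne_one _).resolve_left (kstar_props hG hI hM hKU hK1).2.1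
    obtain ⟨hc, -, -⟩ := (hI.pairCentralizer M hM K U hKU hK1 Mstar hMs hKst hKstH).2.2.1 x hx hx1 y hy hy1
    obtain ⟨hdM, hdx⟩ := Subgroup.mem_inf.mp hd
    have h1 : d ∈ M ⊓ Subgroup.centralizer ({x} : Set G) :=
      ⟨Subgroup.commutator_le_self M hdM, hdx⟩
    rw [hc] at h1
    set C := Cfsg.sigmaCore M ⊓ Subgroup.centralizer (K : Set G) with hC
    have hKn : K ≤ Subgroup.normalizer (C : Set G) :=
      le_trans (fun k hk => Subgroup.mem_centralizer_iff.mpr fun c hc =>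
        (Subgroup.mem_centralizer_iff.mp (Subgroup.mem_inf.mp hc).2 k hk).symm)
        (Subgroup.centralizer_le_normalizer (C : Set G))
    obtain ⟨k, hk, c, hc', rfl⟩ := CfsgLib.Coprime.exists_mul_of_mem_sup hKn h1
    have hcD : c ∈ ⁅M, M⁆ := (hI.core M hM).2.2.1 (Subgroup.mem_inf.mp hc').1
    have h2 : k ∈ ⁅M, M⁆ ⊓ K := ⟨by simpa using mul_mem hdM (inv_mem hcD), hk⟩
    rw [(derived_compl hG hI hM hKU hK1).2.2.1, Subgroup.mem_bot] at h2
    rw [h2, one_mul]
    exact hc'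
  · exact (hI.core M hM).2.2.1
  · exact Subgroup.centralizer_le (Set.singleton_subset_iff.mpr hx)

include hG hI hM hKU in
theorem commute_kstar {k c : G} (hk : k ∈ K)
    (hc : c ∈ Cfsg.sigmaCore M ⊓ Subgroup.centralizer (K : Set G)) : Commute k c :=
  Subgroup.mem_centralizer_iff.mp (Subgroup.mem_inf.mp hc).2 k hk

include hG hI hM hKU in
/-- `K` and `K*` form a self-normalizing cyclic pair. -/
theorem selfNormalizing (hK1 : K ≠ ⊥) :
    Cfsg.IsSelfNormalizingCyclic K (Cfsg.sigmaCore M ⊓ Subgroup.centralizer (K : Set G)) := by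
  set C := Cfsg.sigmaCore M ⊓ Subgroup.centralizer (K : Set G) with hC
  obtain ⟨Mstar, ⟨hMs, hKst, hKstH⟩, -⟩ := hI.partner M hM K U hKU hK1
  have hcyc := (hI.partnerInter M hM K U hKU hK1 Mstar hMs hKst hKstH).2
  obtain ⟨hTI, hN⟩ := hI.zHat M hM K U hKU hK1
  refine ⟨hK1, (kstar_props hG hI hM hKU hK1).2.1, ?_, fun a ha b hb => (commute_kstar hG hI hM hKU ha hb).eq,
    hcyc, fun X hX hne => ?_⟩
  · rw [inf_comm]
    refine le_bot_iff.mp ((inf_le_inf_right K inf_le_left).trans (le_of_eq ?_))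
    exact inf_eq_bot_of_piNat (π := Cfsg.sigma M) (sigma_piNat M)
      fun p hp hd => (hKU.hall.2.1 p hp hd).2.2.1
  · refine le_antisymm (fun g hg => ?_) (fun w hw => ?_)
    · obtain ⟨x, hx⟩ := hne
      have hgx : g * x * g⁻¹ ∈ X := (hg x).mp hx
      by_contra hgW
      have hg' : g ∉ Subgroup.normalizer ((↑(K ⊔ C) : Set G) \ (↑K ∪ ↑C)) := fun h => hgW (hN.le h)
      have h1 := hTI g hg' x (hX hx) (hX hgx)
      exact (hX hx).2 (Or.inl (h1 ▸ K.one_mem))
    · have hcomm : ∀ x ∈ X, w * x * w⁻¹ = x := fun x hx => by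
        have := hcyc
        have h1 : (⟨w, hw⟩ : ↥(K ⊔ C)) * ⟨x, (hX hx).1⟩ = ⟨x, (hX hx).1⟩ * ⟨w, hw⟩ :=
          (IsCyclic.commGroup (α := ↥(K ⊔ C))).mul_comm _ _
        rw [show w * x = x * w from congrArg Subtype.val h1, mul_inv_cancel_right]
      refine fun y => ⟨fun hy => (hcomm y hy).symm ▸ hy, fun hy => ?_⟩
      have h1 : w * y * w⁻¹ = y := by
        have h2 := hcomm _ hy
        have h3 : w * y * w⁻¹ = w * (w * y * w⁻¹) * w⁻¹ := h2.symm
        exact (MulAut.conj w).injective h2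
      rwa [h1] at hy

end CfsgLib.OddOrder42
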