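import Mathlib
import Cfsg.Agent.Lib.OddOrder42.Basic16

/-!
# Auxiliary lemmas: `M_F` of conjugates, normal subgroups against a factorisation, Sylow cores
-/

set_option autoImplicit false
set_option linter.unusedSectionVars false

namespace CfsgLib.OddOrder42

open scoped Pointwise
open Subgroup CfsgLib.OddOrder CfsgLib.OddOrder.Transitivity CfsgLib.OddOrder38

universe u

variable {G : Type u} [Group G] [Finite G]

theorem fittingHallOf_cj (g : G) (M : Subgroup G) :
    Cfsg.fittingHallOf (cj g M) = cj g (Cfsg.fittingHallOf M) := by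
  have h := fittingHall_map_mulEquiv (cjEquiv g M)
  show (Cfsg.fittingHall (cj g M)).map (cj g M).subtype = cj g _
  rw [← h, Subgroup.map_map]
  show _ = ((Cfsg.fittingHall M).map M.subtype).map (MulAut.conj g).toMonoidHom
  rw [Subgroup.map_map]
  congr 1

theorem normalizer_le_normalizer_fittingHallOf (X : Subgroup G) :
    Subgroup.normalizer (X : Set G) ≤ Subgroup.normalizer (Cfsg.fittingHallOf X : Set G) := by
  intro g hg
  refine mem_normalizer_of_cj_eq ?_
  rw [← fittingHallOf_cj, cj_eq_of_mem_normalizer hg]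

/-- The largest normal nilpotent Hall subgroup of a normal Hall subgroup containing `M_F`. -/
theorem fittingHallOf_eq_of_hall {M D : Subgroup G} (hDM : D ≤ M)
    (hn : M ≤ Subgroup.normalizer (D : Set G)) (hH : Cfsg.fittingHallOf M ≤ D)
    (hc : (Nat.card D).Coprime (D.relIndex M)) :
    Cfsg.fittingHallOf D = Cfsg.fittingHallOf M := by
  refine le_antisymm ?_ ?_
  · have hle := fittingHallOf_le D
    refine le_fittingHallOf (hle.trans hDM) (hn.trans (normalizer_le_normalizer_fittingHallOf D))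
      (fittingHallOf_isNilpotent D) ?_
    rw [← Subgroup.relIndex_mul_relIndex _ D M hle hDM]
    exact Nat.Coprime.mul_right (fittingHallOf_coprime_relIndex D)
      (hc.coprime_dvd_left (Subgroup.card_dvd_of_le hle))
  · refine le_fittingHallOf hH (hDM.trans (fittingHallOf_normal M)) (fittingHallOf_isNilpotent M) ?_
    exact (fittingHallOf_coprime_relIndex M).coprime_dvd_right
      (Dvd.intro _ (Subgroup.relIndex_mul_relIndex _ D M hH hDM))

theorem exponent_subgroupOf {A B : Subgroup G} (h : A ≤ B) :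
    Monoid.exponent (A.subgroupOf B) = Monoid.exponent A :=
  Monoid.exponent_eq_of_mulEquiv (Subgroup.subgroupOfEquivOfLe h)

/-- A normal subgroup meets both factors of a coprime factorisation in complements of each other. -/
theorem complIn_inf_of_normal {A B L N : Subgroup G} (h : Cfsg.IsComplIn A B L)
    (hc : (Nat.card A).Coprime (Nat.card B)) (hNL : N ≤ L) (hn : L ≤ Subgroup.normalizer (N : Set G)) :
    Cfsg.IsComplIn (N ⊓ A) (N ⊓ B) N := by
  have key : ∀ {X Y : Subgroup G}, X ≤ L → Y ≤ L → (Nat.card X).Coprime (Nat.card Y) →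
      Nat.card X * Nat.card Y = Nat.card L →
      Nat.gcd (Nat.card N) (Nat.card X) ∣ Nat.card ↥(N ⊓ X) := by
    intro X Y hX hY hcXY hmul
    have h1 : (N.subgroupOf L).Normal := (Subgroup.normal_subgroupOf_iff_le_normalizer hNL).mpr hn
    have h2 := card_sup_of_normal (X.subgroupOf L) (N.subgroupOf L)
    have h3 : Nat.card ↥(X.subgroupOf L ⊔ N.subgroupOf L) ∣ Nat.card X * Nat.card Y :=
      hmul ▸ Subgroup.card_subgroup_dvd_card _
    rw [h2, Nat.card_congr (Subgroup.subgroupOfEquivOfLe hNL).toEquiv,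
      Subgroup.relIndex_subgroupOf hX] at h3
    have h4 : Nat.card ↥(N ⊓ X) * N.relIndex X = Nat.card X := by
      rw [← Subgroup.inf_relIndex_right N X]
      exact card_mul_relIndex_of_le inf_le_right
    have h5 : Nat.card N ∣ Nat.card ↥(N ⊓ X) * Nat.card Y := by
      have h6 : N.relIndex X * Nat.card N ∣ N.relIndex X * (Nat.card ↥(N ⊓ X) * Nat.card Y) := by
        refine h3.trans (dvd_of_eq ?_)
        rw [← h4]
        ring
      exact Nat.dvd_of_mul_dvd_mul_left
        (Nat.pos_of_ne_zero fun h0 => by rw [h0, mul_zero] at h4; exact Nat.card_pos.ne' h4.symm) h6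
    exact Nat.Coprime.dvd_of_dvd_mul_right
      (Nat.Coprime.coprime_dvd_left (Nat.gcd_dvd_right _ _) hcXY) ((Nat.gcd_dvd_left _ _).trans h5)
  refine complIn_of_card inf_le_left inf_le_left
    (le_bot_iff.mp (h.2.2.1 ▸ inf_le_inf inf_le_right inf_le_right)) ?_
  refine Nat.dvd_antisymm ?_ ?_
  · exact Nat.Coprime.mul_dvd_of_dvd_of_dvd
      ((hc.coprime_dvd_left (Subgroup.card_dvd_of_le inf_le_right)).coprime_dvd_right
        (Subgroup.card_dvd_of_le inf_le_right))
      (Subgroup.card_dvd_of_le inf_le_left) (Subgroup.card_dvd_of_le inf_le_left)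
  · have hgcd : Nat.gcd (Nat.card N) (Nat.card A) * Nat.gcd (Nat.card N) (Nat.card B) = Nat.card N := by
      rw [← Nat.Coprime.gcd_mul _ hc, complIn_card h]
      exact Nat.gcd_eq_left (Subgroup.card_dvd_of_le hNL)
    rw [← hgcd]
    exact mul_dvd_mul (key h.1 h.2.1 hc (complIn_card h))
      (key h.2.1 h.1 hc.symm (by rw [mul_comm]; exact complIn_card h))

/-- The `π`-core of a nilpotent subgroup is its Hall `π`-subgroup. -/
theorem piCoreOf_hall {S : Subgroup G} (hS : Group.IsNilpotent S) (π : Set ℕ) :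
    PiNat π (Nat.card (Cfsg.piCoreOf π S)) ∧
      (∀ q : ℕ, q.Prime → q ∈ π → ¬ q ∣ (Cfsg.piCoreOf π S).relIndex S) ∧
      ∀ x ∈ S, (∀ q : ℕ, q.Prime → q ∣ orderOf x → q ∈ π) → x ∈ Cfsg.piCoreOf π S := by
  have := hS
  obtain ⟨K, hK⟩ := CfsgLib.Hall.exists_isPiHall (G := S) π
  have he : K = Cfsg.piCore π S := Sigma10.eq_piCore_of_isPiHall_nilpotent hK
  refine ⟨piNat_card_piCoreOf π S, fun q hq hqπ => ?_, fun x hx hxπ => ?_⟩
  · show ¬ q ∣ ((Cfsg.piCore π S).map S.subtype).relIndex S
    rw [Subgroup.relIndex, Subgroup.subgroupOf,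
      Subgroup.comap_map_eq_self_of_injective S.subtype_injective, ← he]
    exact hK.2 q hq hqπ
  · obtain ⟨g, hg⟩ := CfsgLib.Hall.exists_conj_le_isPiHall hK
      (U := Subgroup.zpowers (⟨x, hx⟩ : S)) fun q hq hd =>
        hxπ q hq (by rwa [Nat.card_zpowers, Subgroup.orderOf_mk] at hd)
    have h1 := hg (Subgroup.smul_mem_pointwise_smul _ (MulAut.conj g) _ (Subgroup.mem_zpowers _))
    rw [he] at h1
    refine ⟨⟨x, hx⟩, ?_, rfl⟩
    have h2 : ∀ a b : S, a * b * a⁻¹ ∈ Cfsg.piCore π S → b ∈ Cfsg.piCore π S := fun a b h => by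
      have := (inferInstance : (Cfsg.piCore π S).Normal).conj_mem _ h a⁻¹
      simpa [mul_assoc] using this
    exact h2 g _ h1

end CfsgLib.OddOrder42
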