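import Mathlib
import Cfsg.Agent.Lib.OddOrder42.Props16
import Cfsg.Agent.Lib.OddOrder40.TheoremD
import Cfsg.Agent.Lib.OddOrder40.Pair14
import Cfsg.Agent.Lib.OddOrder38.Main1436
import Cfsg.Agent.Lib.OddOrder41.Sigma14Inputs
import Cfsg.Agent.S1358
import Cfsg.Agent.S1362
import Cfsg.Agent.S1378
import Cfsg.Agent.S1425

/-!
# The inputs of BG §16 that are theorems
-/

set_option autoImplicit false

namespace CfsgLib.OddOrder42

open CfsgLib.OddOrder CfsgLib.OddOrder41

universe u

variable {G : Type u} [Group G] [Finite G] (hG : Cfsg.IsMinSimpleOddOrder G)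

include hG in
theorem propDisjoint : OddOrder38.PropSigmaDisjoint G :=
  (Cfsg.Agent.S1378.result hG).2

include hG in
theorem propKappaCyclic : OddOrder38.PropKappaCyclic G :=
  OddOrder40.propKappaCyclic hG (Hall14.inputs hG)

include hG in
theorem propKappaHall : OddOrder38.PropKappaHall G := Hall14.propKappaHall hG

include hG in
theorem propSylowU : PropSylowU G := Cfsg.Agent.S1358.result hG

include hG in
theorem propTIA : PropTIA G := Cfsg.Agent.S1362.result hG

include hG in
theorem propSigmaConj : PropSigmaConj G := Cfsg.Agent.S1425.result hG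

include hG in
theorem propDichotomy : PropDichotomy G :=
  OddOrder38.sigma_element_centralizer_dichotomy hG (Hall14.inputs hG)

include hG in
theorem propCosets : PropCosets G := OddOrder38.sigma_cosets_disjoint hG (Hall14.inputs hG)

include hG in
theorem propSupportConj : PropSupportConj G :=
  OddOrder38.two_sigma_maximals_over_element hG (Hall14.inputs hG)

include hG in
theorem propSupport : PropSupport G := fun _ hM _ hx hx1 hxM =>
  OddOrder40.centralizer_partner_type hG (Hall14.inputs hG) hM hx hx1 hxM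

include hG in
theorem propPartner : PropPartner G := fun M hM K U hKU hK1 => by
  obtain ⟨L, hL, hLst, hLH, -⟩ := OddOrder40.exists_pair hG (Hall14.inputs hG) hM hKU.hall hK1
  have h : K = Cfsg.sigmaCore L ⊓ Subgroup.centralizer
      ((Cfsg.sigmaCore M ⊓ Subgroup.centralizer (K : Set G) : Subgroup G) : Set G) := hLst
  rw [Subgroup.coe_inf] at h
  refine ⟨L, ⟨hL, h, hLH⟩, fun L' hL' => ?_⟩
  refine OddOrder40.pair_unique hG (Hall14.inputs hG) hM hKU.hall hK1 hL hLst hLH hL'.1 ?_ hL'.2.2
  rw [Subgroup.coe_inf]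
  exact hL'.2.1

include hG in
theorem propPairCentralizer : PropPairCentralizer G := fun M hM K U hKU hK1 L hL hLst hLH =>
  OddOrder38.kappa_pair_centralizers_and_count hG (Hall14.inputs hG) (propKappaCyclic hG)
    M hM K U hKU hK1 L hL hLst hLH

include hG in
/-- With `K ≠ 1` the factor `U` is abelian. -/
theorem U_comm {M : Subgroup G} (hM : IsCoatom M) {K U : Subgroup G}
    (hKU : Cfsg.IsSigmaDecomposition M K U) (hK1 : K ≠ ⊥) : IsMulCommutative U := by
  obtain ⟨-, ⟨V, hV, hVh, -, -⟩, -⟩ := propKappaHall hG M hM K hKU.hall hK1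
  have hU := OddOrder38.decomp_U_hall hG hM hKU
  have := minSimple_solvable hG hM.1
  obtain ⟨g, -, hle⟩ := OddOrder41.exists_conj_into hVh.1 hVh.2.2 hU.1 hU.2.1
  refine ⟨⟨fun a b => Subtype.ext ((MulAut.conj g).injective ?_)⟩⟩
  have h := congrArg Subtype.val (hV.is_comm.comm
    (⟨_, hle (Subgroup.mem_map_of_mem _ a.2)⟩ : V) ⟨_, hle (Subgroup.mem_map_of_mem _ b.2)⟩)
  simpa using h

include hG in
theorem propClosureAbelian : PropClosureAbelian G := fun M hM K U hKU =>
  OddOrder40.closure_hat_comm hG hM hKU fun hK1 => U_comm hG hM hKU hK1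

include hG in
theorem propExponentU : PropExponentU G := fun M hM K U hKU =>
  OddOrder40.exists_free_part hG hM hKU fun hK1 => U_comm hG hM hKU hK1

include hG in
theorem propCentralizerX : PropCentralizerX G := fun M hM K U hKU X hXU hX hXc =>
  OddOrder40.only_over_centralizer hG hM hKU (fun hK1 => U_comm hG hM hKU hK1) hXU hX hXc

end CfsgLib.OddOrder42
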