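import Mathlib
import Cfsg.Agent.Lib.OddOrder42.Avail16
import Cfsg.Agent.Lib.OddOrder42.Hall16
import Cfsg.Agent.Lib.OddOrder38.Main1431
import Cfsg.Agent.Lib.OddOrder38.Main1437
import Cfsg.Agent.Lib.OddOrder41.FrobeniusNilpotent
import Cfsg.Agent.Lib.Tech46.CoprimeGen

/-!
# BG 15.1, 15.2, 15.7: `M_F`, `M'` and `F(M)` (S1355, S1356, S1357)
-/

set_option autoImplicit false
set_option linter.unusedSectionVars false

namespace CfsgLib.OddOrder42

open Subgroup CfsgLib.OddOrder CfsgLib.OddOrder.Transitivity CfsgLib.OddOrder38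
open scoped commutatorElement

universe u

variable {G : Type u} [Group G] [Finite G]

/-! ### General lemmas -/

/-- An element of order prime to the index of a normal subgroup lies in it. -/
theorem mem_of_coprime_relIndex {N M : Subgroup G} (hNM : N ≤ M)
    (hn : M ≤ Subgroup.normalizer (N : Set G)) {x : G} (hx : x ∈ M)
    (hc : (orderOf x).Coprime (N.relIndex M)) : x ∈ N := by
  have : (N.subgroupOf M).Normal := (Subgroup.normal_subgroupOf_iff_le_normalizer hNM).mpr hn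
  have h1 : orderOf (QuotientGroup.mk' (N.subgroupOf M) ⟨x, hx⟩) ∣ N.relIndex M := orderOf_dvd_natCard _
  have h2 : orderOf (QuotientGroup.mk' (N.subgroupOf M) ⟨x, hx⟩) ∣ orderOf x := by
    have := orderOf_map_dvd (QuotientGroup.mk' (N.subgroupOf M)) ⟨x, hx⟩
    rwa [Subgroup.orderOf_mk] at this
  have h3 := (QuotientGroup.eq_one_iff _).mp
    (orderOf_eq_one_iff.mp (Nat.eq_one_of_dvd_coprimes hc h2 h1))
  exact h3

theorem isNilpotent_of_mulCommutative {A : Type*} [Group A] (h : IsMulCommutative A) :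
    Group.IsNilpotent A := by
  letI : CommGroup A := { (inferInstance : Group A) with mul_comm := fun a b => h.is_comm.comm a b }
  infer_instance

theorem commute_of_coprime_nilpotent {N : Subgroup G} (hN : Group.IsNilpotent N) {a b : G}
    (ha : a ∈ N) (hb : b ∈ N) (hc : (orderOf a).Coprime (orderOf b)) : Commute a b := by
  set σ : Set ℕ := {q | q ∣ orderOf a}
  set τ : Set ℕ := {q | ¬ q ∣ orderOf a}
  have hA : a ∈ Cfsg.piCoreOf σ N := (piCoreOf_hall hN σ).2.2 a ha fun q _ hd => hd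
  have hB : b ∈ Cfsg.piCoreOf τ N := (piCoreOf_hall hN τ).2.2 b hb fun q hq hd hd' =>
    hq.ne_one (Nat.eq_one_of_dvd_coprimes hc hd' hd)
  have hinf : Cfsg.piCoreOf σ N ⊓ Cfsg.piCoreOf τ N = ⊥ :=
    inf_eq_bot_of_piNat (piNat_card_piCoreOf σ N) fun p hp hd => piNat_card_piCoreOf τ N p hp hd
  refine commutatorElement_eq_one_iff_commute.mp
    (Subgroup.mem_bot.mp (hinf.le (Subgroup.mem_inf.mpr ?_)))
  rw [commutatorElement_def]
  refine ⟨?_, mul_mem ((Subgroup.mem_normalizer_iff.mp (piCoreOf_normal τ N ha) b).mp hB) (inv_mem hB)⟩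
  rw [show a * b * a⁻¹ * b⁻¹ = a * (b * a⁻¹ * b⁻¹) by group]
  exact mul_mem hA ((Subgroup.mem_normalizer_iff.mp (piCoreOf_normal σ N hb) _).mp (inv_mem hA))

/-- A commutator fixed by `d` of order prime to that of `d` is trivial. -/
theorem commute_of_coprime_fix {d x c : G} (hc : c = d * x * d⁻¹ * x⁻¹) (hdc : Commute d c)
    (h : (orderOf d).Coprime (orderOf c)) : Commute d x := by
  have key : ∀ n : ℕ, d ^ n * x * (d ^ n)⁻¹ = c ^ n * x := by
    intro n
    induction n with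
    | zero => simp
    | succ n ih =>
      have h1 : d * c ^ n = c ^ n * d := (hdc.pow_right n).eq
      have h2 : d * x * d⁻¹ = c * x := by rw [hc]; group
      calc d ^ (n + 1) * x * (d ^ (n + 1))⁻¹ = d * (d ^ n * x * (d ^ n)⁻¹) * d⁻¹ := by
            rw [pow_succ']; group
        _ = (d * c ^ n) * x * d⁻¹ := by rw [ih]; group
        _ = c ^ n * (d * x * d⁻¹) := by rw [h1]; group
        _ = c ^ (n + 1) * x := by rw [h2, pow_succ]; group
  have h1 := key (orderOf d)
  rw [pow_orderOf_eq_one, one_mul, inv_one, mul_one] at h1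
  have h3 : c ^ orderOf d = 1 := mul_eq_right.mp h1.symm
  have h4 : c = 1 :=
    orderOf_eq_one_iff.mp (Nat.eq_one_of_dvd_coprimes h (orderOf_dvd_of_pow_eq_one h3) dvd_rfl)
  refine commutatorElement_eq_one_iff_commute.mp ?_
  rw [commutatorElement_def, ← hc, h4]

/-- If `A` is abelian modulo the normal subgroup `W ≥ N`, so is `N A`. -/
theorem commutator_le_of_le_sup {A N W X M : Subgroup G} (hWM : W ≤ M)
    (hn : M ≤ Subgroup.normalizer (W : Set G)) (hAM : A ≤ M) (hNW : N ≤ W) (hAA : ⁅A, A⁆ ≤ W)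
    (hX : X ≤ N ⊔ A) : ⁅X, X⁆ ≤ W := by
  refine (Subgroup.commutator_mono hX hX).trans ?_
  have : (W.subgroupOf M).Normal := (Subgroup.normal_subgroupOf_iff_le_normalizer hWM).mpr hn
  set π := QuotientGroup.mk' (W.subgroupOf M) with hπ
  have hNAM : N ⊔ A ≤ M := sup_le (hNW.trans hWM) hAM
  have hN : (N.subgroupOf M).map π = ⊥ := by
    rw [Subgroup.map_eq_bot_iff, QuotientGroup.ker_mk']
    exact Subgroup.comap_mono hNW
  have h : ⁅(N ⊔ A).subgroupOf M, (N ⊔ A).subgroupOf M⁆ ≤ W.subgroupOf M := by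
    rw [← QuotientGroup.ker_mk' (W.subgroupOf M), ← Subgroup.map_eq_bot_iff, ← hπ,
      Subgroup.map_commutator, Subgroup.subgroupOf_sup (hNW.trans hWM) hAM, Subgroup.map_sup, hN,
      bot_sup_eq, ← Subgroup.map_commutator, Subgroup.map_eq_bot_iff, hπ, QuotientGroup.ker_mk']
    refine Subgroup.map_le_iff_le_comap.mp ?_
    rwa [Subgroup.map_commutator, Subgroup.map_subgroupOf_eq_of_le hAM]
  have h' := Subgroup.map_mono (f := M.subtype) h
  rwa [Subgroup.map_commutator, Subgroup.map_subgroupOf_eq_of_le hNAM,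
    Subgroup.map_subgroupOf_eq_of_le hWM] at h'

/-- `(M' M_F)/M_F` is nilpotent when `M' ≤ M_F D` with `D` nilpotent. -/
theorem derived_image_nilpotent {M D : Subgroup G} (hDM : D ≤ M) (hD : Group.IsNilpotent D)
    (h : ⁅M, M⁆ ≤ Cfsg.fittingHallOf M ⊔ D) :
    Group.IsNilpotent ↥((commutator ↥M).map (QuotientGroup.mk' (Cfsg.fittingHall ↥M))) := by
  have h1 : commutator ↥M ≤ Cfsg.fittingHall ↥M ⊔ D.subgroupOf M := by
    rw [← Subgroup.map_le_map_iff_of_injective M.subtype_injective, Subgroup.map_subtype_commutator,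
      Subgroup.map_sup, Subgroup.map_subgroupOf_eq_of_le hDM]
    exact h
  refine Fitting.isNilpotent_of_le (Fitting.isNilpotent_map
    ((Group.isNilpotent_congr (Subgroup.subgroupOfEquivOfLe hDM)).mpr hD)
    (QuotientGroup.mk' (Cfsg.fittingHall ↥M))) ((Subgroup.map_mono h1).trans ?_)
  rw [Subgroup.map_sup, QuotientGroup.map_mk'_self, bot_sup_eq]

/-- A subgroup centralizing `M_F` and lying in `M_F D`, `D` nilpotent, is nilpotent. -/
theorem nilpotent_of_central {M C D : Subgroup G} (hCM : C ≤ M) (hDM : D ≤ M)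
    (hD : Group.IsNilpotent D) (hc : C ≤ Subgroup.centralizer (Cfsg.fittingHallOf M : Set G))
    (h : C ≤ Cfsg.fittingHallOf M ⊔ D) : Group.IsNilpotent C := by
  set π := QuotientGroup.mk' (Cfsg.fittingHall ↥M) with hπ
  set f : C →* (↥M ⧸ Cfsg.fittingHall ↥M) := π.comp (Subgroup.inclusion hCM) with hf
  have hrange : f.range ≤ (D.subgroupOf M).map π := by
    rintro _ ⟨c, rfl⟩
    have h1 : (⟨c, hCM c.2⟩ : M) ∈ Cfsg.fittingHall ↥M ⊔ D.subgroupOf M := by
      have h2 : (c : G) ∈ (Cfsg.fittingHall ↥M ⊔ D.subgroupOf M).map M.subtype := by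
        rw [Subgroup.map_sup, Subgroup.map_subgroupOf_eq_of_le hDM]
        exact h c.2
      obtain ⟨y, hy, he⟩ := h2
      rwa [← show y = ⟨c, hCM c.2⟩ from Subtype.ext he]
    have h3 := Subgroup.mem_map_of_mem π h1
    rwa [Subgroup.map_sup, hπ, QuotientGroup.map_mk'_self, bot_sup_eq] at h3
  have := Fitting.isNilpotent_of_le (Fitting.isNilpotent_map
    ((Group.isNilpotent_congr (Subgroup.subgroupOfEquivOfLe hDM)).mpr hD) π) hrange
  refine Subgroup.isNilpotent_of_ker_le_center f.rangeRestrict ?_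
  intro c hc1
  rw [MonoidHom.ker_rangeRestrict, MonoidHom.mem_ker] at hc1
  have h4 : (c : G) ∈ Cfsg.fittingHallOf M := ⟨⟨c, hCM c.2⟩, (QuotientGroup.eq_one_iff _).mp hc1, rfl⟩
  exact Subgroup.mem_center_iff.mpr fun d =>
    Subtype.ext (Subgroup.mem_centralizer_iff.mp (hc d.2) c h4).symm

/-! ### `M_F`, `F(M)` and `C_M(M_F)` -/

theorem fittingHallOf_le_fitting (M : Subgroup G) : Cfsg.fittingHallOf M ≤ Cfsg.fittingOf M :=
  le_fittingOf (fittingHallOf_le M) (fittingHallOf_normal M) (fittingHallOf_isNilpotent M)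

theorem normalizer_centralizer_fittingHall (M : Subgroup G) :
    M ≤ Subgroup.normalizer
      ((M ⊓ Subgroup.centralizer (Cfsg.fittingHallOf M : Set G) : Subgroup G) : Set G) := fun g hg =>
  mem_normalizer_inf (Subgroup.le_normalizer hg) (mem_normalizer_of_cj_eq (by
    rw [OddOrder41.cj_centralizer, cj_eq_of_mem_normalizer (fittingHallOf_normal M hg)]))

/-- Split an element of `M` by the primes of `M_F`. -/
theorem exists_fittingHall_part {M : Subgroup G} {x : G} (hx : x ∈ M) :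
    ∃ a b : G, x = a * b ∧ a ∈ Cfsg.fittingHallOf M ∧ b ∈ Subgroup.zpowers x ∧
      (orderOf b).Coprime (Nat.card (Cfsg.fittingHallOf M)) := by
  obtain ⟨a, b, he, ha, hb, hap, hbp⟩ := exists_parts {q | q ∣ Nat.card (Cfsg.fittingHallOf M)} x
  refine ⟨a, b, he, ?_, hb, coprime_of_forall fun p hp d1 d2 => hbp p hp d1 d2⟩
  exact mem_of_coprime_relIndex (fittingHallOf_le M) (fittingHallOf_normal M)
    (Subgroup.zpowers_le.mpr hx ha) (coprime_of_forall fun p hp d1 d2 =>
      hp.ne_one (Nat.eq_one_of_dvd_coprimes (fittingHallOf_coprime_relIndex M) (hap p hp d1) d2))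

theorem fittingOf_le_sup (M : Subgroup G) :
    Cfsg.fittingOf M ≤
      (M ⊓ Subgroup.centralizer (Cfsg.fittingHallOf M : Set G)) ⊔ Cfsg.fittingHallOf M := by
  intro x hx
  have hxM := fittingOf_le M hx
  obtain ⟨a, b, rfl, ha, hb, hc⟩ := exists_fittingHall_part hxM
  have hbF : b ∈ Cfsg.fittingOf M := Subgroup.zpowers_le.mpr hx hb
  refine mul_mem (Subgroup.mem_sup_right ha) (Subgroup.mem_sup_left ⟨fittingOf_le M hbF, ?_⟩)
  refine Subgroup.mem_centralizer_iff.mpr fun h hh => ?_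
  exact (commute_of_coprime_nilpotent (fittingOf_isNilpotent M) (fittingHallOf_le_fitting M hh) hbF
    ((hc.coprime_dvd_right (Subgroup.orderOf_dvd_natCard _ hh)).symm)).eq

variable (hG : Cfsg.IsMinSimpleOddOrder G) {M : Subgroup G} (hM : IsCoatom M)

include hG hM in
theorem fittingHallOf_le_sigmaCore : Cfsg.fittingHallOf M ≤ Cfsg.sigmaCore M := by
  refine le_sigmaCore hG hM (fittingHallOf_le M) fun p hp hd => ?_
  have := Fact.mk hp
  rw [card_fittingHallOf] at hd
  obtain ⟨P, hPn, -⟩ := exists_normal_sylow_le_fittingHall hd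
  have hpM : p ∣ Nat.card M := hd.trans (Subgroup.card_subgroup_dvd_card _)
  refine ⟨hp, hpM, P, (Sigma15.normalizer_eq_of_normal hG hM (Subgroup.map_subtype_le _) ?_
    (map_subtype_normalized _)).le⟩
  intro h
  have h1 : Nat.card ↥((P : Subgroup M).map M.subtype) = 1 := by rw [h, Subgroup.card_bot]
  rw [Subgroup.card_map_of_injective M.subtype_injective] at h1
  exact hp.not_dvd_one (h1 ▸ P.dvd_card_of_dvd_card hpM)

include hG hM in
theorem exists_decomp' : ∃ K U : Subgroup G, Cfsg.IsSigmaDecomposition M K U := by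
  obtain ⟨K, hK⟩ := (propKappaCyclic hG M hM).1
  obtain ⟨U, hU⟩ := OddOrder41.Hall14.exists_decomposition hG hM ((propKappaCyclic hG M hM).2 K hK) hK
  exact ⟨K, U, hU⟩

include hG hM in
/-- What S1437 gives. -/
theorem ne_sigma_data {K U : Subgroup G} (hKU : Cfsg.IsSigmaDecomposition M K U)
    (hne : Cfsg.fittingHallOf M ≠ Cfsg.sigmaCore M) :
    U = ⊥ ∧ Cfsg.sigmaCore M = ⁅M, M⁆ ∧ (Nat.card K).Prime ∧
      (Nat.card ↥(Cfsg.sigmaCore M ⊓ Subgroup.centralizer (K : Set G))).Prime ∧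
      Nat.card ↥(Cfsg.sigmaCore M ⊓ Subgroup.centralizer (K : Set G)) ∣ Nat.card (Cfsg.fittingHallOf M) ∧
      Nat.card ↥(Cfsg.sigmaCore M ⊓ Subgroup.centralizer (K : Set G)) ∈ Cfsg.beta M ∧
      ∃ Q : Subgroup G, Q ≤ Cfsg.fittingHallOf M ∧ M ≤ Subgroup.normalizer (Q : Set G) ∧
        IsPGroup (Nat.card ↥(Cfsg.sigmaCore M ⊓ Subgroup.centralizer (K : Set G))) Q ∧
        ¬ Nat.card ↥(Cfsg.sigmaCore M ⊓ Subgroup.centralizer (K : Set G)) ∣ Q.relIndex (Cfsg.sigmaCore M) ∧
        ∀ D : Subgroup G, Cfsg.IsComplIn Q D (Cfsg.sigmaCore M) →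
          Group.IsNilpotent D ∧
          M ≤ Subgroup.normalizer ((Q ⊓ Subgroup.centralizer (D : Set G) : Subgroup G) : Set G) ∧
          Q ⊓ Subgroup.centralizer (D : Set G) < Q ∧
          Nat.card Q = Nat.card ↥(Q ⊓ Subgroup.centralizer (D : Set G)) *
            Nat.card ↥(Cfsg.sigmaCore M ⊓ Subgroup.centralizer (K : Set G)) ^ Nat.card K ∧
          (∀ a ∈ Q, ∀ b ∈ Q,
            a ^ Nat.card ↥(Cfsg.sigmaCore M ⊓ Subgroup.centralizer (K : Set G)) ∈
              Q ⊓ Subgroup.centralizer (D : Set G) ∧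
            a * b * a⁻¹ * b⁻¹ ∈ Q ⊓ Subgroup.centralizer (D : Set G)) ∧
          ∀ N : Subgroup G, Q ⊓ Subgroup.centralizer (D : Set G) < N → N < Q →
            ¬ M ≤ Subgroup.normalizer (N : Set G) :=
  OddOrder38.fitting_hall_ne_sigma hG (OddOrder41.Hall14.inputs hG) M hM K U hKU hne fun hK1 => by
    obtain ⟨Mstar, h1, h2, h3, -⟩ :=
      OddOrder40.exists_pair hG (OddOrder41.Hall14.inputs hG) hM hKU.hall hK1
    exact ⟨Mstar, h1, h2, h3⟩

include hG hM in
/-- A `K`-invariant complement in `M_σ` of a normal Sylow subgroup. -/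
theorem exists_invariant_compl {K : Subgroup G} (hK : Cfsg.IsPiHallOf (Cfsg.kappa M) K M) {q : ℕ}
    [Fact q.Prime] (hq : q ∈ Cfsg.sigma M) {Q : Subgroup G} (hQS : Q ≤ Cfsg.sigmaCore M)
    (hQn : M ≤ Subgroup.normalizer (Q : Set G)) (hQp : IsPGroup q Q)
    (hidx : ¬ q ∣ Q.relIndex (Cfsg.sigmaCore M)) :
    ∃ D : Subgroup G, Cfsg.IsComplIn Q D (Cfsg.sigmaCore M) ∧ ¬ q ∣ Nat.card D ∧
      K ≤ Subgroup.normalizer (D : Set G) := by
  set S := Cfsg.sigmaCore M with hS
  have := minSimple_solvable hG hM.1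
  have hSM : S ≤ M := piCoreOf_le _ _
  have hQM := hQS.trans hSM
  obtain ⟨H, hH⟩ := CfsgLib.Hall.exists_isPiHall (G := M) {r | r ≠ q}
  have hHc : ∀ r : ℕ, r.Prime → r ∣ Nat.card ↥(H.map M.subtype) → r ≠ q := fun r hr hd =>
    hH.1 r hr (by rwa [Subgroup.card_map_of_injective M.subtype_injective] at hd)
  have hHi : ∀ r : ℕ, r.Prime → r ∈ {r : ℕ | r ≠ q} → ¬ r ∣ (H.map M.subtype).relIndex M :=
    fun r hr hrq hd => hH.2 r hr hrq (by
      rwa [Subgroup.relIndex, Subgroup.subgroupOf,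
        Subgroup.comap_map_eq_self_of_injective M.subtype_injective] at hd)
  obtain ⟨g, hg, hle⟩ := OddOrder41.exists_conj_into (π := {r | r ≠ q}) (Subgroup.map_subtype_le H) hHi
    hK.1 fun r hr hd (e : r = q) => (hK.2.1 r hr hd).2.2.1 (e ▸ hq)
  set E := cj g⁻¹ (H.map M.subtype) with hE
  have hKE : K ≤ E := by
    have h := cj_mono (g := g⁻¹) hle
    rwa [cj_mul, inv_mul_cancel, cj_one] at h
  have hMm : cj g⁻¹ M = M := cj_eq_of_mem_normalizer (Subgroup.le_normalizer (M.inv_mem hg))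
  have hEM : E ≤ M := (cj_mono (Subgroup.map_subtype_le H)).trans hMm.le
  have hEc : ∀ r : ℕ, r.Prime → r ∣ Nat.card E → r ≠ q := fun r hr hd =>
    hHc r hr (by rwa [hE, card_cj] at hd)
  have hEi : ∀ r : ℕ, r.Prime → r ∣ E.relIndex M → r = q := fun r hr hd => by
    by_contra hrq
    refine hHi r hr hrq ?_
    have h1 : (cj g⁻¹ (H.map M.subtype)).relIndex (cj g⁻¹ M) = (H.map M.subtype).relIndex M :=
      Subgroup.relIndex_map_map_of_injective _ _ (MulAut.conj g⁻¹).injective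
    rw [hMm, ← hE] at h1
    rwa [← h1]
  have hqE : ¬ q ∣ Nat.card E := fun hd => hEc q Fact.out hd rfl
  obtain ⟨n, hn⟩ := hQp.exists_card_eq
  have hcQE : (Nat.card Q).Coprime (Nat.card E) := by
    rw [hn]
    exact ((Fact.out : q.Prime).coprime_iff_not_dvd.mpr hqE).pow_left n
  have hqi : ¬ q ∣ Q.relIndex M := by
    rw [← Subgroup.relIndex_mul_relIndex Q S M hQS hSM]
    exact fun hd => ((Fact.out : q.Prime).dvd_mul.mp hd).elim hidx
      ((sigma_hall hG hM).2.2 q Fact.out hq)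
  have hcard : Nat.card E = Q.relIndex M := by
    have h1 : Nat.card E * E.relIndex M = Nat.card Q * Q.relIndex M :=
      (card_mul_relIndex_of_le hEM).trans (card_mul_relIndex_of_le hQM).symm
    refine Nat.dvd_antisymm (hcQE.symm.dvd_of_dvd_mul_left ⟨_, h1.symm⟩) ?_
    refine Nat.Coprime.dvd_of_dvd_mul_right ?_ (⟨Nat.card Q, by rw [h1, mul_comm]⟩ :
      Q.relIndex M ∣ Nat.card E * E.relIndex M)
    exact coprime_of_forall fun r hr d1 d2 => hqi (hEi r hr d2 ▸ d1)
  have hQE : Cfsg.IsComplIn Q E M :=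
    complIn_of_card hQM hEM (Subgroup.disjoint_of_coprime_natCard hcQE).eq_bot
      (by rw [hcard]; exact card_mul_relIndex_of_le hQM)
  have h := complIn_inf_of_normal hQE hcQE hSM (piCoreOf_normal _ _)
  rw [inf_eq_right.mpr hQS] at h
  refine ⟨S ⊓ E, h, fun hd => hqE (hd.trans (Subgroup.card_dvd_of_le inf_le_right)), fun k hk => ?_⟩
  exact mem_normalizer_inf (piCoreOf_normal _ _ (hK.1 hk)) (Subgroup.le_normalizer (hKE hk))

include hG hM in
/-- BG 15.2: the derived group of a complement centralizes the normal Sylow subgroup. -/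
theorem commutator_compl_centralizes {K : Subgroup G} (hK : Cfsg.IsPiHallOf (Cfsg.kappa M) K M)
    (hKp : (Nat.card K).Prime) {q : ℕ} [Fact q.Prime]
    (hKst : Nat.card ↥(Cfsg.sigmaCore M ⊓ Subgroup.centralizer (K : Set G)) = q)
    (hq : q ∈ Cfsg.sigma M) {Q D : Subgroup G} (hQn : M ≤ Subgroup.normalizer (Q : Set G))
    (hQp : IsPGroup q Q) (hQD : Cfsg.IsComplIn Q D (Cfsg.sigmaCore M)) (hqD : ¬ q ∣ Nat.card D)
    (hKD : K ≤ Subgroup.normalizer (D : Set G)) (hDn : Group.IsNilpotent D)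
    (hQ₀n : M ≤ Subgroup.normalizer ((Q ⊓ Subgroup.centralizer (D : Set G) : Subgroup G) : Set G)) :
    ⁅D, D⁆ ≤ Subgroup.centralizer (Q : Set G) := by
  set S := Cfsg.sigmaCore M with hS
  set Q₀ := Q ⊓ Subgroup.centralizer (D : Set G) with hQ₀
  set C := S ⊓ Subgroup.centralizer (K : Set G) with hC
  have hSM : S ≤ M := piCoreOf_le _ _
  have hQS : Q ≤ S := hQD.1
  have hDS : D ≤ S := hQD.2.1
  have hQM := hQS.trans hSM
  have hDM := hDS.trans hSM
  have hK1 : K ≠ ⊥ := fun h => hKp.ne_one (by rw [h, Subgroup.card_bot])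
  have hCQ : C ≤ Q := fun c hc => by
    refine mem_of_coprime_relIndex hQS (hSM.trans hQn) hc.1 ?_
    rw [IsComplIn.relIndex_left hQD]
    refine Nat.Coprime.coprime_dvd_left ?_ ((Fact.out : q.Prime).coprime_iff_not_dvd.mpr hqD)
    exact hKst ▸ Subgroup.orderOf_dvd_natCard C hc
  have hqK : ¬ q ∣ Nat.card K := fun hd => (hK.2.1 q Fact.out hd).2.2.1 hq
  -- coprime orders between `D` and `Q`
  have hord : ∀ d ∈ D, ∀ x ∈ Q, (orderOf d).Coprime (orderOf x) := fun d hd x hx => by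
    obtain ⟨n, hn⟩ := hQp.exists_card_eq
    refine Nat.Coprime.coprime_dvd_right (hn ▸ Subgroup.orderOf_dvd_natCard Q hx) (Nat.Coprime.pow_right n ?_)
    exact ((Fact.out : q.Prime).coprime_iff_not_dvd.mpr
      fun h => hqD (h.trans (Subgroup.orderOf_dvd_natCard D hd))).symm
  -- trivial modulo `Q₀` means trivial
  have hcomm : ∀ d ∈ D, ∀ x ∈ Q, d * x * d⁻¹ * x⁻¹ ∈ Q₀ → Commute d x := fun d hd x hx h =>
    commute_of_coprime_fix rfl (Subgroup.mem_centralizer_iff.mp (Subgroup.mem_inf.mp h).2 d hd)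
      (hord d hd _ (Subgroup.mem_inf.mp h).1)
  have : (Q₀.subgroupOf M).Normal :=
    (Subgroup.normal_subgroupOf_iff_le_normalizer (inf_le_left.trans hQM)).mpr hQ₀n
  set π := QuotientGroup.mk' (Q₀.subgroupOf M) with hπ
  have hπeq : ∀ (a b : M), π a = π b → (a : G) * (b : G)⁻¹ ∈ Q₀ := fun a b h => by
    have h1 : π (a * b⁻¹) = 1 := by rw [map_mul, h, map_inv, mul_inv_cancel]
    have h2 : a * b⁻¹ ∈ Q₀.subgroupOf M := (QuotientGroup.eq_one_iff _).mp h1
    exact h2
  have hnorm : ∀ {A B : Subgroup G}, A ≤ Subgroup.normalizer (B : Set G) →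
      (A.subgroupOf M).map π ≤ Subgroup.normalizer (((B.subgroupOf M).map π : Subgroup _) : Set _) := by
    intro A B h
    refine (Subgroup.map_mono fun a ha => ?_).trans (Subgroup.le_normalizer_map π)
    exact Subgroup.mem_normalizer_iff.mpr fun y => Subgroup.mem_normalizer_iff.mp (h ha) (y : G)
  have hcardim : ∀ {A : Subgroup G}, A ≤ M → Nat.card ↥((A.subgroupOf M).map π) ∣ Nat.card A := fun hA =>
    (Subgroup.card_map_dvd (H := _) π).trans (dvd_of_eq (Nat.card_congr (Subgroup.subgroupOfEquivOfLe hA).toEquiv))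
  set D' := (D.subgroupOf M).map π with hD'
  set K' := (K.subgroupOf M).map π with hK'
  set Q' := (Q.subgroupOf M).map π with hQ'
  have hK'1 : K' ≠ ⊥ := by
    intro h
    refine hK1 ((Subgroup.eq_bot_iff_forall _).mpr fun k hk => ?_)
    have h1 : π ⟨k, hK.1 hk⟩ = 1 := by
      refine Subgroup.mem_bot.mp (h ▸ ?_)
      exact Subgroup.mem_map_of_mem π (show (⟨k, hK.1 hk⟩ : M) ∈ K.subgroupOf M from hk)
    have h2' : (⟨k, hK.1 hk⟩ : M) ∈ Q₀.subgroupOf M := (QuotientGroup.eq_one_iff _).mp h1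
    have h2 : k ∈ Q := (Subgroup.mem_inf.mp (show k ∈ Q₀ from h2')).1
    have h3 : K ⊓ S = ⊥ := by
      rw [inf_comm]
      exact inf_eq_bot_of_piNat (sigma_piNat M) fun p hp hd => (hK.2.1 p hp hd).2.2.1
    exact Subgroup.mem_bot.mp (h3.le (Subgroup.mem_inf.mpr ⟨hk, hQS h2⟩))
  have hD'n : Group.IsNilpotent D' := Fitting.isNilpotent_map
    ((Group.isNilpotent_congr (Subgroup.subgroupOfEquivOfLe hDM)).mpr hDn) π
  have hDQ : D ⊓ Q = ⊥ := inf_comm Q D ▸ hQD.2.2.1
  have hfpf : ∀ r ∈ K', r ≠ 1 → ∀ v ∈ D', r * v = v * r → v = 1 := by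
    rintro _ ⟨k, hk, rfl⟩ hk1 _ ⟨d, hd, rfl⟩ he
    have hk' : (k : G) ∈ K := hk
    have hd' : (d : G) ∈ D := hd
    have h1 : (k : G) * d * ((d : G) * k)⁻¹ ∈ Q₀ := by
      refine hπeq (k * d) (d * k) ?_
      rw [map_mul, map_mul]
      exact he
    have h2 : (k : G) * d * ((d : G) * k)⁻¹ ∈ D ⊓ Q := by
      refine Subgroup.mem_inf.mpr ⟨?_, (Subgroup.mem_inf.mp h1).1⟩
      rw [show (k : G) * d * ((d : G) * k)⁻¹ = ((k : G) * d * (k : G)⁻¹) * (d : G)⁻¹ by group]
      exact mul_mem ((Subgroup.mem_normalizer_iff.mp (hKD hk') _).mp hd') (inv_mem hd')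
    rw [hDQ, Subgroup.mem_bot, mul_inv_eq_one] at h2
    have hk0 : (k : G) ≠ 1 := fun h => hk1 (by rw [show k = 1 from Subtype.ext h, map_one])
    have h3 : (d : G) ∈ C := by
      rw [hC, hS, ← (propKappaHall hG M hM K hK hK1).1 (k : G) hk' hk0]
      exact ⟨hDS hd', Subgroup.mem_centralizer_singleton_iff.mpr h2.symm⟩
    have h4 : (d : G) = 1 := Subgroup.mem_bot.mp (hDQ.le (Subgroup.mem_inf.mpr ⟨hd', hCQ h3⟩))
    rw [show d = 1 from Subtype.ext h4, map_one]
  have hK'D : K' ≤ Subgroup.normalizer (D' : Set _) := hnorm hKD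
  have hcop : (Nat.card Q').Coprime (Nat.card ↥(D' ⊔ K')) := by
    obtain ⟨n, hn⟩ := hQp.exists_card_eq
    refine Nat.Coprime.coprime_dvd_left (hn ▸ hcardim hQM) (Nat.Coprime.pow_left n ?_)
    refine (Fact.out : q.Prime).coprime_iff_not_dvd.mpr fun hd => ?_
    rw [sup_comm] at hd
    rcases (Fact.out : q.Prime).dvd_mul.mp (hd.trans (Coprime.card_sup_dvd hK'D)) with h | h
    · exact hqK (h.trans (hcardim hK.1))
    · exact hqD (h.trans (hcardim hDM))
  have hsolv : Group.IsSolvable Q' := by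
    have := ((hQp.of_equiv (Subgroup.subgroupOfEquivOfLe hQM).symm).map π).isNilpotent
    infer_instance
  have h0 : Q' ⊓ Subgroup.centralizer (D' : Set _) = ⊥ := by
    refine (Subgroup.eq_bot_iff_forall _).mpr ?_
    rintro _ ⟨⟨x, hx, rfl⟩, hxc⟩
    refine (QuotientGroup.eq_one_iff _).mpr ?_
    show (x : G) ∈ Q₀
    refine ⟨hx, Subgroup.mem_centralizer_iff.mpr fun d hd => ?_⟩
    have h1 := hπeq (⟨d, hDM hd⟩ * x) (x * ⟨d, hDM hd⟩) (by
      rw [map_mul, map_mul]
      exact Subgroup.mem_centralizer_iff.mp hxc (π ⟨d, hDM hd⟩)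
        (Subgroup.mem_map_of_mem π (show (⟨d, hDM hd⟩ : M) ∈ D.subgroupOf M from hd)))
    refine (hcomm d hd x hx ?_).eq
    simpa [mul_assoc] using h1
  have hcyc : IsCyclic ↥(Q' ⊓ Subgroup.centralizer (K' : Set _)) := by
    have hCc : IsCyclic ↥((C.subgroupOf M).map π) := by
      have : IsCyclic C := isCyclic_of_prime_card (p := q) hKst
      have : IsCyclic ↥(C.subgroupOf M) :=
        isCyclic_of_surjective (Subgroup.subgroupOfEquivOfLe (inf_le_left.trans hSM)).symm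
          (MulEquiv.surjective _)
      exact isCyclic_of_surjective (π.subgroupMap _) (π.subgroupMap_surjective _)
    haveI := hCc
    refine Subgroup.isCyclic_of_le (?_ : _ ≤ (C.subgroupOf M).map π)
    rintro _ ⟨⟨x, hx, rfl⟩, hxc⟩
    have := Fact.mk hKp
    obtain ⟨y, hy, hxy⟩ := Tech46.exists_fixed_in_coset (p := Nat.card K) (A := K) (N := Q₀)
      (x := (x : G)) (IsPGroup.of_card (n := 1) (pow_one _).symm) (fun hd => by
        obtain ⟨n, hn⟩ := hQp.exists_card_eq
        exact hqK (((Nat.prime_dvd_prime_iff_eq hKp Fact.out).mp (hKp.dvd_of_dvd_pow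
          ((hd.trans (Subgroup.card_dvd_of_le inf_le_left)).trans (dvd_of_eq hn)))) ▸ dvd_rfl))
      (hK.1.trans hQ₀n) fun a ha => by
        have h1 := hπeq (x⁻¹ * (⟨a, hK.1 ha⟩ * x * ⟨a, hK.1 ha⟩⁻¹)) 1 (by
          have h2 := Subgroup.mem_centralizer_iff.mp hxc (π ⟨a, hK.1 ha⟩)
            (Subgroup.mem_map_of_mem π (show (⟨a, hK.1 ha⟩ : M) ∈ K.subgroupOf M from ha))
          rw [map_mul, map_mul, map_mul, map_inv, map_inv, map_one, h2]
          group)
        simpa using h1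
    have hyQ : y ∈ Q := (Subgroup.mem_inf.mp hy).1
    refine ⟨x * ⟨y, hQM hyQ⟩, ?_, ?_⟩
    · show (x : G) * y ∈ C
      exact ⟨hQS (mul_mem hx hyQ), hxy⟩
    · rw [map_mul, show π ⟨y, hQM hyQ⟩ = 1 from (QuotientGroup.eq_one_iff _).mpr hy, mul_one]
  have hmain := OddOrder41.FixedFormula.commutator_le_centralizer_of_cyclic D' K' hK'1 hK'D hD'n hfpf Q'
    (sup_le (hnorm (hDM.trans hQn)) (hnorm (hK.1.trans hQn))) hsolv hcop h0 hcyc
  intro d hd
  have hdD : d ∈ D := Subgroup.commutator_le_self D hd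
  refine Subgroup.mem_centralizer_iff.mpr fun x hx => (hcomm d hdD x hx ?_).eq.symm
  have hdc : π ⟨d, hDM hdD⟩ ∈ ⁅D', D'⁆ := by
    rw [hD', ← Subgroup.map_commutator]
    refine Subgroup.mem_map_of_mem π ?_
    have h2 : d ∈ (⁅D.subgroupOf M, D.subgroupOf M⁆).map M.subtype := by
      rwa [Subgroup.map_commutator, Subgroup.map_subgroupOf_eq_of_le hDM]
    obtain ⟨y, hy, he⟩ := h2
    rwa [← show y = ⟨d, hDM hdD⟩ from Subtype.ext he]
  have h1 := hπeq (⟨d, hDM hdD⟩ * ⟨x, hQM hx⟩) (⟨x, hQM hx⟩ * ⟨d, hDM hdD⟩) (by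
    rw [map_mul, map_mul]
    exact (Subgroup.mem_centralizer_iff.mp (hmain hdc) (π ⟨x, hQM hx⟩)
      (Subgroup.mem_map_of_mem π (show (⟨x, hQM hx⟩ : M) ∈ Q.subgroupOf M from hx))).symm)
  simpa [mul_assoc] using h1

/-! ### S1355 -/

include hG hM in
theorem compl_derived {E : Subgroup G} (hE : Cfsg.IsComplIn E (Cfsg.sigmaCore M) M) :
    ⁅M, M⁆ ≤ Cfsg.sigmaCore M ⊔ ⁅E, E⁆ := by
  set S := Cfsg.sigmaCore M with hS
  refine commutator_le_of_le_sup (A := E) (N := S)
    (sup_le hE.2.1 ((Subgroup.commutator_le_self E).trans hE.1)) ?_ hE.1 le_sup_left le_sup_right ?_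
  · intro m hm
    obtain ⟨e, he, s, hs, rfl⟩ := hE.2.2.2 m hm
    have hSe : cj e S = S := cj_eq_of_mem_normalizer (piCoreOf_normal _ _ (hE.1 he))
    refine mul_mem (mem_normalizer_of_cj_eq ?_) (Subgroup.le_normalizer (Subgroup.mem_sup_left hs))
    rw [Transitivity.cj, Subgroup.map_sup, Subgroup.map_commutator, ← Transitivity.cj, ← Transitivity.cj,
      hSe,
      cj_eq_of_mem_normalizer (Subgroup.le_normalizer he)]
  · intro m hm
    obtain ⟨e, he, s, hs, rfl⟩ := hE.2.2.2 m hm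
    exact mul_mem (Subgroup.mem_sup_right he) (Subgroup.mem_sup_left hs)

include hG in
theorem propCore : PropCore G := fun M hM => by
  have hle := fittingHallOf_le_sigmaCore hG hM
  refine ⟨?_, hle, Sigma11.sigmaCore_le_derived hG hM, ?_, ?_⟩
  · by_cases h : Cfsg.fittingHallOf M = Cfsg.sigmaCore M
    · rw [h]
      exact Sigma15.sigmaCore_ne_bot hG hM
    · obtain ⟨K, U, hKU⟩ := exists_decomp' hG hM
      obtain ⟨-, -, -, hqp, hqH, -⟩ := ne_sigma_data hG hM hKU h
      intro h0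
      rw [h0, Subgroup.card_bot] at hqH
      exact hqp.not_dvd_one hqH
  · have := minSimple_solvable hG hM.1
    have hnt : Nontrivial M := (Subgroup.nontrivial_iff_ne_bot M).mpr fun h =>
      Sigma15.sigmaCore_ne_bot hG hM (le_bot_iff.mp ((piCoreOf_le _ _).trans h.le))
    have h := Group.IsSolvable.commutator_lt_top_of_nontrivial M
    have h' := Subgroup.map_subtype_lt_map_subtype.mpr h
    rwa [Subgroup.map_subtype_commutator, ← MonoidHom.range_eq_map, Subgroup.range_subtype] at h'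
  · by_cases h : Cfsg.fittingHallOf M = Cfsg.sigmaCore M
    · obtain ⟨E, hE⟩ := OddOrder41.exists_compl hG hM
      refine derived_image_nilpotent ((Subgroup.commutator_le_self E).trans hE.1)
        (isNilpotent_of_mulCommutative (Sigma12.compl_derived_comm hG hM hE)) ?_
      rw [h]
      exact compl_derived hG hM hE
    · obtain ⟨K, U, hKU⟩ := exists_decomp' hG hM
      obtain ⟨-, hSM', -, hqp, -, hqβ, Q, hQH, hQn, hQp, hidx, hall⟩ := ne_sigma_data hG hM hKU h
      have := Fact.mk hqp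
      obtain ⟨D, hD, -, -⟩ := exists_invariant_compl hG hM hKU.hall
        (piNat_card_piCoreOf (Cfsg.sigma M) M _ hqp (Subgroup.card_dvd_of_le inf_le_left))
        (hQH.trans hle) hQn hQp hidx
      refine derived_image_nilpotent (hD.2.1.trans (piCoreOf_le _ _)) (hall D hD).1 ?_
      rw [← hSM', ← complIn_sup hD]
      exact sup_le_sup_right hQH D

/-! ### S1356 -/

include hG hM in
/-- `C_M(M_F)` involves no prime of `κ(M)`. -/
theorem centralizer_not_kappa {K U : Subgroup G} (hKU : Cfsg.IsSigmaDecomposition M K U) {p : ℕ}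
    (hp : p.Prime)
    (hd : p ∣ Nat.card ↥(M ⊓ Subgroup.centralizer (Cfsg.fittingHallOf M : Set G))) :
    p ∉ Cfsg.kappa M := by
  intro hκ
  set H := Cfsg.fittingHallOf M with hH
  set S := Cfsg.sigmaCore M with hS
  set C := M ⊓ Subgroup.centralizer (H : Set G) with hC
  have := Fact.mk hp
  have := minSimple_solvable hG hM.1
  obtain ⟨x, hx⟩ := exists_prime_orderOf_dvd_card' (G := C) p hd
  have hxo : orderOf (x : G) = p := by rw [Subgroup.orderOf_coe, hx]
  obtain ⟨g, hg, hle⟩ := OddOrder41.exists_conj_into hKU.hall.1 hKU.hall.2.2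
    (Subgroup.zpowers_le.mpr (Subgroup.mem_inf.mp x.2).1) (fun r hr hrd => by
      rw [Nat.card_zpowers, hxo] at hrd
      rwa [(Nat.prime_dvd_prime_iff_eq hr hp).mp hrd])
  set k : G := g * x * g⁻¹ with hk
  have hkK : k ∈ K := hle (Subgroup.mem_map_of_mem _ (Subgroup.mem_zpowers _))
  have hk1 : k ≠ 1 := by
    intro h
    rw [hk, conj_eq_one_iff] at h
    exact hp.ne_one (by rw [← hxo, h, orderOf_one])
  have hkC : k ∈ C := (Subgroup.mem_normalizer_iff.mp (normalizer_centralizer_fittingHall M hg) _).mp x.2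
  have hK1 : K ≠ ⊥ := fun h => hk1 (Subgroup.mem_bot.mp (h ▸ hkK))
  set Ks := S ⊓ Subgroup.centralizer (K : Set G) with hKs
  have hHS := fittingHallOf_le_sigmaCore hG hM
  have hHK : H ≤ Ks := by
    rw [hKs, hS, ← (propKappaHall hG M hM K hKU.hall hK1).1 k hkK hk1]
    exact le_inf hHS fun h hh => Subgroup.mem_centralizer_singleton_iff.mpr
      (Subgroup.mem_centralizer_iff.mp (Subgroup.mem_inf.mp hkC).2 h hh)
  by_cases heq : H = S
  · obtain ⟨r, hr, hrd⟩ := Nat.exists_prime_and_dvd (n := Nat.card Ks) fun h => by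
      refine Sigma15.sigmaCore_ne_bot hG hM (le_bot_iff.mp ?_)
      rw [← Subgroup.card_eq_one.mp h, ← hS, ← heq]
      exact hHK
    have := Fact.mk hr
    obtain ⟨T⟩ : Nonempty (Sylow r S) := inferInstance
    exact ((OddOrder38.kappa_star_intersections hG (OddOrder41.Hall14.inputs hG) M hM K hKU.hall hK1).2.2.1
      r hr hrd T).2.2 ((Subgroup.map_subtype_le _).trans (heq.ge.trans hHK))
  · obtain ⟨-, -, hKp, hqp, -, -, Q, hQH, hQn, hQp, hidx, hall⟩ := ne_sigma_data hG hM hKU heq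
    have := Fact.mk hqp
    obtain ⟨D, hD, -, -⟩ := exists_invariant_compl hG hM hKU.hall
      (piNat_card_piCoreOf (Cfsg.sigma M) M _ hqp (Subgroup.card_dvd_of_le inf_le_left))
      (hQH.trans hHS) hQn hQp hidx
    obtain ⟨-, -, -, hcard, -⟩ := hall D hD
    have h1 := Nat.le_of_dvd Nat.card_pos (Subgroup.card_dvd_of_le (hQH.trans hHK))
    rw [hcard] at h1
    have h2 : Nat.card Ks ^ 2 ≤ Nat.card Ks ^ Nat.card K :=
      Nat.pow_le_pow_right hqp.pos hKp.two_le
    have h3 : 1 ≤ Nat.card ↥(Q ⊓ Subgroup.centralizer (D : Set G)) := Nat.card_pos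
    have h4 := Nat.mul_le_mul h3 h2
    have h5 : Nat.card Ks * 2 ≤ Nat.card Ks ^ 2 := by
      rw [pow_two]
      exact Nat.mul_le_mul le_rfl hqp.two_le
    have h6 : 1 ≤ Nat.card Ks := Nat.card_pos
    have h1' : Nat.card ↥(Q ⊓ Subgroup.centralizer (D : Set G)) * Nat.card Ks ^ Nat.card K ≤
      Nat.card Ks := h1
    rw [one_mul] at h4
    omega

include hG hM in
theorem centralizer_le_decomp {K U : Subgroup G} (hKU : Cfsg.IsSigmaDecomposition M K U) :
    M ⊓ Subgroup.centralizer (Cfsg.fittingHallOf M : Set G) ≤ U ⊔ Cfsg.sigmaCore M := by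
  intro x hx
  refine mem_of_coprime_relIndex (sup_le hKU.compl.1 (piCoreOf_le _ _))
    (OddOrder41.Hall14.decomposition_normal hG hM hKU) (Subgroup.mem_inf.mp hx).1
    (coprime_of_forall fun p hp d1 d2 =>
      centralizer_not_kappa hG hM hKU hp (d1.trans (Subgroup.orderOf_dvd_natCard _ hx)) ?_)
  have h1 : Nat.card ↥(U ⊔ Cfsg.sigmaCore M) * (U ⊔ Cfsg.sigmaCore M).relIndex M = Nat.card M :=
    card_mul_relIndex_of_le (sup_le hKU.compl.1 (piCoreOf_le _ _))
  have h2 := decomp_card hKU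
  rw [decomp_card_sup hG hM hKU] at h1
  have h3 : (U ⊔ Cfsg.sigmaCore M).relIndex M = Nat.card K :=
    Nat.eq_of_mul_eq_mul_left (Nat.mul_pos Nat.card_pos Nat.card_pos)
      (h1.trans (h2.symm.trans (by ring)))
  exact hKU.hall.2.1 p hp (h3 ▸ d2)

include hG hM in
theorem centralizer_le_fittingOf :
    M ⊓ Subgroup.centralizer (Cfsg.fittingHallOf M : Set G) ≤ Cfsg.fittingOf M := by
  set C := M ⊓ Subgroup.centralizer (Cfsg.fittingHallOf M : Set G) with hC
  refine le_fittingOf inf_le_left (normalizer_centralizer_fittingHall M) ?_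
  obtain ⟨K, U, hKU⟩ := exists_decomp' hG hM
  have hCUS := centralizer_le_decomp hG hM hKU
  by_cases h : Cfsg.fittingHallOf M = Cfsg.sigmaCore M
  · have hUM := hKU.compl.1
    have hcp : Cfsg.IsComplIn (Cfsg.sigmaCore M) U (U ⊔ Cfsg.sigmaCore M) :=
      complIn_of_card le_sup_right le_sup_left (decomp_U_inf_sigmaCore hG hM hKU)
        (by rw [decomp_card_sup hG hM hKU, mul_comm])
    have hCc := complIn_inf_of_normal hcp (coprime_of_forall fun p hp d1 d2 =>
        (decomp_U_piNat hG hM hKU p hp d2).2.2 (sigma_piNat M p hp d1)) hCUS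
      ((sup_le hUM (piCoreOf_le _ _)).trans (normalizer_centralizer_fittingHall M))
    refine nilpotent_of_central inf_le_left (inf_le_right.trans hUM : C ⊓ U ≤ M) ?_ inf_le_right ?_
    · refine isNilpotent_of_mulCommutative ⟨⟨fun a b => Subtype.ext ?_⟩⟩
      have hcl : ∀ u : ↥(C ⊓ U), (u : G) ∈ Subgroup.closure ((U : Set G) ∩ Cfsg.sigmaHat M) := by
        intro u
        refine Subgroup.subset_closure ⟨(Subgroup.mem_inf.mp u.2).2, hUM (Subgroup.mem_inf.mp u.2).2, ?_⟩
        obtain ⟨y, hy, hy1⟩ :=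
          (Subgroup.bot_or_exists_ne_one _).resolve_left (Sigma15.sigmaCore_ne_bot hG hM)
        exact ⟨y, hy, hy1, (Subgroup.mem_centralizer_iff.mp
          (Subgroup.mem_inf.mp (Subgroup.mem_inf.mp u.2).1).2 y (h ▸ hy)).symm⟩
      exact mul_comm_of_mem (propClosureAbelian hG M hM K U hKU) (hcl a) (hcl b)
    · refine (complIn_sup hCc).ge.trans ?_
      exact sup_le ((inf_le_right.trans h.ge).trans le_sup_left) le_sup_right
  · obtain ⟨hU, -, -, hqp, -, -, Q, hQH, hQn, hQp, hidx, hall⟩ := ne_sigma_data hG hM hKU h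
    have := Fact.mk hqp
    obtain ⟨D, hD, -, -⟩ := exists_invariant_compl hG hM hKU.hall
      (piNat_card_piCoreOf (Cfsg.sigma M) M _ hqp (Subgroup.card_dvd_of_le inf_le_left))
      (hQH.trans (fittingHallOf_le_sigmaCore hG hM)) hQn hQp hidx
    refine nilpotent_of_central inf_le_left (hD.2.1.trans (piCoreOf_le _ _)) (hall D hD).1 inf_le_right ?_
    rw [hU, bot_sup_eq] at hCUS
    exact hCUS.trans ((complIn_sup hD).ge.trans (sup_le_sup_right hQH D))

include hG hM in
theorem fittingOf_eq : Cfsg.fittingOf M =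
    (M ⊓ Subgroup.centralizer (Cfsg.fittingHallOf M : Set G)) ⊔ Cfsg.fittingHallOf M :=
  le_antisymm (fittingOf_le_sup M)
    (sup_le (centralizer_le_fittingOf hG hM) (fittingHallOf_le_fitting M))

include hG hM in
theorem second_derived_le : ⁅⁅M, M⁆, ⁅M, M⁆⁆ ≤ Cfsg.fittingOf M := by
  set H := Cfsg.fittingHallOf M with hH
  by_cases h : H = Cfsg.sigmaCore M
  · refine le_trans ?_ (fittingHallOf_le_fitting M)
    obtain ⟨E, hE⟩ := OddOrder41.exists_compl hG hM
    have hEc := Sigma12.compl_derived_comm hG hM hE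
    refine commutator_le_of_le_sup (fittingHallOf_le M) (fittingHallOf_normal M)
      (A := ⁅E, E⁆) (N := Cfsg.sigmaCore M) ((Subgroup.commutator_le_self E).trans hE.1) h.ge ?_
      (compl_derived hG hM hE)
    rw [(Subgroup.commutator_eq_bot_iff_le_centralizer (H₁ := ⁅E, E⁆) (H₂ := ⁅E, E⁆)).mpr
      (Subgroup.le_centralizer_iff_isMulCommutative.mpr hEc)]
    exact bot_le
  · obtain ⟨K, U, hKU⟩ := exists_decomp' hG hM
    obtain ⟨-, hSM', hKp, hqp, -, -, Q, hQH, hQn, hQp, hidx, hall⟩ := ne_sigma_data hG hM hKU h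
    have := Fact.mk hqp
    have hqσ := piNat_card_piCoreOf (Cfsg.sigma M) M _ hqp
      (Subgroup.card_dvd_of_le (inf_le_left :
        Cfsg.sigmaCore M ⊓ Subgroup.centralizer (K : Set G) ≤ _))
    obtain ⟨D, hD, hqD, hKD⟩ := exists_invariant_compl hG hM hKU.hall hqσ
      (hQH.trans (fittingHallOf_le_sigmaCore hG hM)) hQn hQp hidx
    obtain ⟨hDn, hQ₀, -⟩ := hall D hD
    have hDQ := commutator_compl_centralizes hG hM hKU.hall hKp rfl hqσ hQn hQp hD hqD hKD hDn hQ₀
    have hDM : D ≤ M := hD.2.1.trans (piCoreOf_le _ _)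
    refine commutator_le_of_le_sup (fittingOf_le M) (fittingOf_normal M) (A := D) (N := Q) hDM
      (hQH.trans (fittingHallOf_le_fitting M)) ?_ (by rw [← hSM', complIn_sup hD])
    intro x hx
    have hxD : x ∈ D := Subgroup.commutator_le_self D hx
    obtain ⟨a, b, rfl, ha, hb, hc⟩ := exists_fittingHall_part (hDM hxD)
    refine mul_mem (fittingHallOf_le_fitting M ha) (centralizer_le_fittingOf hG hM ?_)
    have hbD : b ∈ D := Subgroup.zpowers_le.mpr hxD hb
    refine ⟨hDM hbD, ?_⟩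
    have hbQ : b ∈ Subgroup.centralizer (Q : Set G) := Subgroup.zpowers_le.mpr (hDQ hx) hb
    obtain ⟨n, hn⟩ := hQp.exists_card_eq
    have hH' := complIn_inf_of_normal hD (hn ▸ Nat.Coprime.pow_left n (hqp.coprime_iff_not_dvd.mpr hqD))
      (fittingHallOf_le_sigmaCore hG hM) ((piCoreOf_le _ _).trans (fittingHallOf_normal M))
    refine Subgroup.mem_centralizer_iff.mpr fun y hy => ?_
    obtain ⟨u, hu, v, hv, rfl⟩ := hH'.2.2.2 y hy
    have h1 : Commute u b := Subgroup.mem_centralizer_iff.mp hbQ u (Subgroup.mem_inf.mp hu).2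
    have h2 : Commute v b := commute_of_coprime_nilpotent hDn (Subgroup.mem_inf.mp hv).2 hbD
      (hc.coprime_dvd_right (Subgroup.orderOf_dvd_natCard _ (Subgroup.mem_inf.mp hv).1)).symm
    exact (h1.mul_left h2).eq

include hG in
theorem propFitting : PropFitting G := fun M hM => by
  refine ⟨second_derived_le hG hM, fittingOf_eq hG hM, fun hκ => ?_⟩
  obtain ⟨K, U, hKU⟩ := exists_decomp' hG hM
  have hK1 := hall_ne_bot_of_kappa hKU.hall hκ
  have hS := Sigma11.sigmaCore_le_derived hG hM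
  have hUM : U ≤ ⁅M, M⁆ :=
    (OddOrder38.decomp_commutator hG (OddOrder41.Hall14.inputs hG) hM hKU hK1).ge.trans
      (Subgroup.commutator_mono hKU.compl.1 hKU.hall.1)
  rw [fittingOf_eq hG hM]
  exact sup_le ((centralizer_le_decomp hG hM hKU).trans (sup_le hUM hS))
    ((fittingHallOf_le_sigmaCore hG hM).trans hS)

/-! ### S1357 -/

include hG in
/-- S1357, given S1440. -/
theorem propNotNilpotent (hFI : PropFittingTI G) : PropNotNilpotent G := fun M hM K U hKU hne => by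
  obtain ⟨hU, hSM', hKp, -⟩ := ne_sigma_data hG hM hKU hne
  refine ⟨hU, fun g hg x hx hgx => ?_, hKp⟩
  by_contra hx1
  have hgM : g ∉ M := fun h => hg (fittingOf_normal M h)
  have hX : Cfsg.fittingOf M ⊓ (Cfsg.fittingOf M).map (MulAut.conj g).toMonoidHom ≠ ⊥ := fun h0 => by
    have h1 : g * x * g⁻¹ ∈ Cfsg.fittingOf M ⊓ (Cfsg.fittingOf M).map (MulAut.conj g).toMonoidHom :=
      ⟨hgx, ⟨x, hx, rfl⟩⟩
    rw [h0, Subgroup.mem_bot, conj_eq_one_iff] at h1
    exact hx1 h1
  exact hne (hFI M hM K U hKU g hgM hX).2.1.1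

end CfsgLib.OddOrder42
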