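import Mathlib
import Cfsg.Agent.Lib.OddOrder42.Hall16

/-!
# BG §16: the types II--V from the standard factorisation
-/

set_option autoImplicit false
set_option linter.unusedSectionVars false

namespace CfsgLib.OddOrder42

open Subgroup CfsgLib.OddOrder CfsgLib.OddOrder.Transitivity CfsgLib.OddOrder38

universe u

variable {G : Type u} [Group G] [Finite G]

theorem exists_complIn {N L : Subgroup G} (hNL : N ≤ L) (hn : L ≤ Subgroup.normalizer (N : Set G))
    (hc : (Nat.card N).Coprime (N.relIndex L)) : ∃ E : Subgroup G, Cfsg.IsComplIn N E L := by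
  have : (N.subgroupOf L).Normal := (Subgroup.normal_subgroupOf_iff_le_normalizer hNL).mpr hn
  obtain ⟨E, hE⟩ := Subgroup.exists_right_complement'_of_coprime (N := N.subgroupOf L)
    (by rwa [Nat.card_congr (Subgroup.subgroupOfEquivOfLe hNL).toEquiv])
  refine ⟨E.map L.subtype, hNL, Subgroup.map_subtype_le _, ?_, fun m hm => ?_⟩
  · rw [eq_bot_iff]
    rintro _ ⟨hyN, y, hy, rfl⟩
    have h1 : y ∈ N.subgroupOf L ⊓ E := ⟨hyN, hy⟩
    rw [hE.disjoint.eq_bot, Subgroup.mem_bot] at h1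
    rw [h1]; exact Subgroup.one_mem _
  · obtain ⟨⟨⟨a, ha⟩, ⟨b, hb⟩⟩, hab⟩ := hE.2 ⟨m, hm⟩
    exact ⟨a, ha, b, ⟨b, hb, rfl⟩, (congrArg Subtype.val hab).symm⟩

theorem sylowOf_of_not_dvd {p : ℕ} [hp : Fact p.Prime] {T M : Subgroup G} (hTM : T ≤ M)
    (hT : IsPGroup p T) (hnd : ¬ p ∣ T.relIndex M) : SylowOf p T M := by
  refine ⟨hTM, hT, fun Q hQM hQ hle => ?_⟩
  refine le_antisymm (Subgroup.relIndex_eq_one.mp ?_) hle
  have h1 : T.relIndex Q ∣ T.relIndex M := Dvd.intro _ (Subgroup.relIndex_mul_relIndex T Q M hle hQM)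
  obtain ⟨n, hn⟩ := hQ.exists_card_eq
  obtain ⟨i, -, hi⟩ := (Nat.dvd_prime_pow hp.out).mp (hn ▸ Dvd.intro_left _ (card_mul_relIndex_of_le hle))
  rcases Nat.eq_zero_or_pos i with h0 | h0
  · rw [hi, h0, pow_zero]
  · exact absurd ((dvd_pow_self p h0.ne').trans (hi ▸ h1)) hnd

/-- Frobenius type from a complement. -/
theorem typeF_mk {D S U U₁ U₀ : Subgroup G} (hs : Group.IsSolvable D) (hodd : Odd (Nat.card D))
    (hS : Cfsg.fittingHallOf D = S) (hc : Cfsg.IsComplIn S U D) (hS1 : S ≠ ⊥) (hU : U ≠ ⊥)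
    (h1 : U₁ ≤ U) (hn : U ≤ Subgroup.normalizer (U₁ : Set G)) (hab : IsMulCommutative U₁)
    (hcent : ∀ u ∈ U, ∀ x ∈ S, x ≠ 1 → u * x = x * u → u ∈ U₁)
    (h0 : U₀ ≤ U) (hexp : Monoid.exponent U₀ = Monoid.exponent U)
    (hfpf : ∀ u ∈ U₀, u ≠ 1 → ∀ x ∈ S, u * x = x * u → x = 1) : Cfsg.IsOfTypeF D := by
  have hH : Cfsg.fittingHall D = S.subgroupOf D := by rw [← hS, fittingHallOf_subgroupOf]
  refine ⟨hs, hodd, ?_, ?_, U.subgroupOf D, ?_, ?_, ⟨U₁.subgroupOf D, ?_, ?_, ?_, ?_⟩,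
    ⟨U₀.subgroupOf D, ?_, ?_, ?_⟩⟩
  · intro h
    exact hS1 (by rw [← hS, Cfsg.fittingHallOf, h, Subgroup.map_bot])
  · intro h
    refine hU (le_bot_iff.mp ?_)
    rw [← hc.2.2.1]
    exact le_inf (hc.2.1.trans (Subgroup.subgroupOf_eq_top.mp (hH ▸ h))) le_rfl
  · intro h
    refine hU (le_bot_iff.mp fun u hu => ?_)
    have h2 : (⟨u, hc.2.1 hu⟩ : D) ∈ U.subgroupOf D := hu
    rw [h, Subgroup.mem_bot] at h2
    exact Subgroup.mem_bot.mpr (congrArg Subtype.val h2)
  · rw [hH]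
    exact IsComplIn.isComplement' hc
  · exact fun x hx => h1 hx
  · exact fun d hd x => hn hd (x : G)
  · exact ⟨⟨fun a b => Subtype.ext (Subtype.ext (congrArg (fun z : U₁ => (z : G))
      (hab.is_comm.comm (⟨_, a.2⟩ : U₁) ⟨_, b.2⟩)))⟩⟩
  · intro x hx hx1 u hu
    obtain ⟨huU, hux⟩ := Subgroup.mem_inf.mp hu
    rw [hH] at hx
    exact hcent u huU x hx (fun h => hx1 (Subtype.ext h))
      (congrArg Subtype.val (Subgroup.mem_centralizer_singleton_iff.mp hux))
  · exact fun x hx => h0 hx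
  · rw [exponent_subgroupOf (h0.trans hc.2.1), exponent_subgroupOf hc.2.1, hexp]
  · intro u hu hu1 x hx hux
    rw [hH] at hx
    exact Subtype.ext (hfpf u hu (fun h => hu1 (Subtype.ext h)) x hx (congrArg Subtype.val hux))

variable (hG : Cfsg.IsMinSimpleOddOrder G) (hI : Inputs G) {M : Subgroup G} (hM : IsCoatom M)
  {K U : Subgroup G} (hKU : Cfsg.IsSigmaDecomposition M K U)

include hG hI hM in
theorem normalizer_fittingHallOf : Subgroup.normalizer (Cfsg.fittingHallOf M : Set G) = M :=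
  Sigma15.normalizer_eq_of_normal hG hM (fittingHallOf_le M) (hI.core M hM).1 (fittingHallOf_normal M)

include hG hI hM in
theorem fittingHallOf_le_fittingOf : Cfsg.fittingHallOf M ≤ Cfsg.fittingOf M := by
  rw [(hI.fitting M hM).2.1]
  exact le_sup_right

include hG hI hM hKU in
/-- Type P data from a factorisation and a nilpotent complement of `M_F` in `M'`. -/
theorem typeP_mk (hK1 : K ≠ ⊥) {V : Subgroup G} (hV : Cfsg.IsComplIn (Cfsg.fittingHallOf M) V ⁅M, M⁆)
    (hVn : Group.IsNilpotent V) (hKV : K ≤ Subgroup.normalizer (V : Set G)) :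
    Cfsg.IsTypePWith M K V (Cfsg.sigmaCore M ⊓ Subgroup.centralizer (K : Set G)) := by
  have hκ := kappa_nonempty_of_hall hKU.hall hK1
  have hF := hI.fitting M hM
  have hswap : Cfsg.fittingHallOf M ⊔ (M ⊓ Subgroup.centralizer (Cfsg.fittingHallOf M : Set G)) =
      Cfsg.fittingOf M := by rw [hF.2.1, sup_comm]
  refine ⟨hK1, hKU.cyclic, piHallOf_coprime hKU.hall, derived_compl hG hI hM hKU hK1, hVn, hKV, hV,
    (kstar_props hG hI hM hKU hK1).2.2.2, ?_, hswap, hF.2.2 hκ, ?_,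
    fun x hx hx1 => derived_centralizer hG hI hM hKU hK1 hx hx1, selfNormalizing hG hI hM hKU hK1⟩
  · rw [hswap]; exact hF.1
  · exact le_inf (kstar_props hG hI hM hKU hK1).2.2.1 (hI.derived M hM K U hKU hK1).2

include hG hI hM hKU in
theorem U_compl_derived (hK1 : K ≠ ⊥) (hU : U ≠ ⊥) :
    Cfsg.IsComplIn (Cfsg.fittingHallOf M) U ⁅M, M⁆ := by
  rw [fittingHallOf_eq hG hI hM hKU hU]
  exact derived_compl_U hG hI hM hKU hK1

include hG hI hM hKU in
/-- BG 16: `K ≠ 1`, `U ≠ 1` gives Type II. -/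
theorem typeII_of (hK1 : K ≠ ⊥) (hU : U ≠ ⊥) : Cfsg.IsOfTypeII M := by
  obtain ⟨hab, hN⟩ := hI.uAbelian M hM K U hKU hK1
  obtain ⟨hp, hTI, -⟩ := hI.primeK M hM K U hKU hK1 hU
  have hc := U_compl_derived hG hI hM hKU hK1 hU
  have hVn : Group.IsNilpotent U := by
    letI : CommGroup U := { (inferInstance : Group U) with mul_comm := fun a b => hab.is_comm.comm a b }
    infer_instance
  have hcore := hI.core M hM
  have hD : Cfsg.fittingHallOf ⁅M, M⁆ = Cfsg.fittingHallOf M := by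
    refine fittingHallOf_eq_of_hall (Subgroup.commutator_le_self M) (le_normalizer_derived M)
      (hcore.2.1.trans hcore.2.2.1) ?_
    rw [IsComplIn.relIndex_left (derived_compl hG hI hM hKU hK1)]
    exact (coprime_derived hG hI hM hKU hK1).symm
  refine ⟨K, U, _, typeP_mk hG hI hM hKU hK1 hc hVn hKU.normal, hU, hp, hTI, hab, hN, ?_, hD⟩
  have hne : ⁅M, M⁆ ≠ ⊤ := fun h => hM.1 (top_le_iff.mp (h ▸ Subgroup.commutator_le_self M))
  obtain ⟨U₀, hU₀, hexp, hfix⟩ := hI.exponentU M hM K U hKU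
  refine typeF_mk (minSimple_solvable hG hne) (minSimple_odd hG _) hD hc hcore.1 hU le_rfl
    Subgroup.le_normalizer hab (fun u hu _ _ _ _ => hu) hU₀ hexp fun u hu hu1 x hx hux => ?_
  by_contra hx1
  exact hu1 (hfix u hu ⟨hKU.compl.1 (hU₀ hu), x, (hI.core M hM).2.1 hx, hx1, hux⟩)

include hG hI hM hKU in
/-- A `K`-invariant nilpotent complement of `M_F` in `M'`. -/
theorem exists_derived_complement (hK1 : K ≠ ⊥) :
    ∃ V : Subgroup G, Cfsg.IsComplIn (Cfsg.fittingHallOf M) V ⁅M, M⁆ ∧ Group.IsNilpotent V ∧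
      K ≤ Subgroup.normalizer (V : Set G) := by
  set H := Cfsg.fittingHallOf M with hH
  have hcore := hI.core M hM
  have hHD : H ≤ ⁅M, M⁆ := hcore.2.1.trans hcore.2.2.1
  have hHM : H ≤ M := fittingHallOf_le M
  have hHn : M ≤ Subgroup.normalizer (H : Set G) := fittingHallOf_normal M
  obtain ⟨E, hE⟩ := exists_complIn hHM hHn (fittingHallOf_coprime_relIndex M)
  have := minSimple_solvable hG hM.1
  obtain ⟨m, hm, hle⟩ := OddOrder41.exists_conj_into (π := {r | r ∣ Nat.card K}) hE.2.1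
    (fun r hr hrK hd => by
      rw [IsComplIn.relIndex_left (complIn_symm hE)] at hd
      exact hr.ne_one (Nat.eq_one_of_dvd_coprimes (coprime_derived hG hI hM hKU hK1) hrK
        (hd.trans (Subgroup.card_dvd_of_le hHD)))) hKU.hall.1 (fun r _ hd => hd)
  set E' := cj m⁻¹ E with hE'
  have hKE : K ≤ E' := cj_le_iff.mp hle
  have hc : Cfsg.IsComplIn H E' M := by
    have h := complIn_cj hE m⁻¹
    rwa [cj_eq_of_mem_normalizer (hHn (inv_mem hm)),
      cj_eq_of_mem_normalizer (Subgroup.le_normalizer (inv_mem hm))] at h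
  have hcop : (Nat.card H).Coprime (Nat.card E') := by
    rw [← IsComplIn.relIndex_left hc]; exact fittingHallOf_coprime_relIndex M
  have hV := complIn_inf_of_normal hc hcop (Subgroup.commutator_le_self M) (le_normalizer_derived M)
  rw [inf_eq_right.mpr hHD] at hV
  refine ⟨⁅M, M⁆ ⊓ E', hV, ?_, ?_⟩
  · have := hcore.2.2.2.2
    set f : ↥(⁅M, M⁆ ⊓ E') →* M ⧸ Cfsg.fittingHall M :=
      (QuotientGroup.mk' (Cfsg.fittingHall M)).comp
        (Subgroup.inclusion (inf_le_left.trans (Subgroup.commutator_le_self M))) with hf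
    have hinj : Function.Injective f := by
      rw [← MonoidHom.ker_eq_bot_iff, eq_bot_iff]
      intro v hv
      rw [hf, MonoidHom.mem_ker, MonoidHom.comp_apply, QuotientGroup.mk'_apply,
        QuotientGroup.eq_one_iff] at hv
      have h1 : (v : G) ∈ H ⊓ E' := ⟨⟨_, hv, rfl⟩, (Subgroup.mem_inf.mp v.2).2⟩
      rw [hc.2.2.1, Subgroup.mem_bot] at h1
      exact Subgroup.mem_bot.mpr (Subtype.ext h1)
    have hrange : f.range ≤ (commutator M).map (QuotientGroup.mk' (Cfsg.fittingHall M)) := by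
      rintro _ ⟨v, rfl⟩
      refine ⟨Subgroup.inclusion (inf_le_left.trans (Subgroup.commutator_le_self M)) v, ?_, rfl⟩
      have h2 : (v : G) ∈ (commutator M).map M.subtype := by
        rw [M.map_subtype_commutator]; exact (Subgroup.mem_inf.mp v.2).1
      obtain ⟨w, hw, hwe⟩ := h2
      exact (show w = Subgroup.inclusion (inf_le_left.trans (Subgroup.commutator_le_self M)) v from
        Subtype.ext hwe) ▸ hw
    have : Group.IsNilpotent f.range :=
      Group.nilpotent_of_mulEquiv (Subgroup.subgroupOfEquivOfLe hrange)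
    exact Group.nilpotent_of_mulEquiv (MonoidHom.ofInjective hinj).symm
  · exact (le_inf (hKU.hall.1.trans (le_normalizer_derived M)) (hKE.trans Subgroup.le_normalizer)).trans
      Subgroup.inf_normalizer_le_normalizer_inf

include hG hI hM hKU in
/-- BG 16: `M_F ≠ M_σ` gives Type III or IV. -/
theorem typeIII_IV_of (hK1 : K ≠ ⊥) (hne : Cfsg.fittingHallOf M ≠ Cfsg.sigmaCore M) :
    Cfsg.IsOfTypeIII M ∨ Cfsg.IsOfTypeIV M := by
  obtain ⟨hU, hTI, hp⟩ := hI.notNilpotent M hM K U hKU hne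
  obtain ⟨V, hV, hVn, hKV⟩ := exists_derived_complement hG hI hM hKU hK1
  have hD := sigmaCore_eq_derived_of_bot hG hI hM hKU hK1 hU
  have hV1 : V ≠ ⊥ := fun h => by
    have := complIn_sup hV
    rw [h, sup_bot_eq, hD] at this
    exact hne this
  have hVS : V ≤ Cfsg.sigmaCore M := hD ▸ hV.2.1
  have hN : Subgroup.normalizer (V : Set G) ≤ M := by
    obtain ⟨p, hp', hd⟩ := Nat.exists_prime_and_dvd (n := Nat.card V)
      fun h => hV1 (Subgroup.card_eq_one.mp h)
    have := Fact.mk hp'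
    set T := Cfsg.piCoreOf {p} V with hT
    obtain ⟨hT1, hT2, -⟩ := piCoreOf_hall hVn {p}
    have hTp : IsPGroup p T := IsPGroup.of_card (Nat.eq_prime_pow_of_unique_prime_dvd Nat.card_pos.ne'
      fun {q} hq hd => Set.mem_singleton_iff.mp (hT1 q hq hd))
    have hpσ : p ∈ Cfsg.sigma M := sigma_piNat M p hp' (hd.trans (Subgroup.card_dvd_of_le hVS))
    have hTV : T ≤ V := piCoreOf_le _ _
    refine (Sigma15.normalizer_le_normalizer_piCoreOf {p} V).trans
      (Sigma10.normalizer_le_of_mem_sigma hpσ (sylowOf_of_not_dvd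
        (hTV.trans (hVS.trans (piCoreOf_le _ _))) hTp fun h => ?_))
    rw [← Subgroup.relIndex_mul_relIndex T V M hTV (hVS.trans (piCoreOf_le _ _)),
      ← Subgroup.relIndex_mul_relIndex V (Cfsg.sigmaCore M) M hVS (piCoreOf_le _ _)] at h
    rcases hp'.dvd_mul.mp h with h | h
    · exact hT2 p hp' rfl h
    rcases hp'.dvd_mul.mp h with h | h
    · rw [← hD, IsComplIn.relIndex_left (complIn_symm hV)] at h
      refine hp'.ne_one (Nat.eq_one_of_dvd_coprimes (fittingHallOf_coprime_relIndex M) h (hd.trans ?_))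
      rw [← IsComplIn.relIndex_left hV]
      exact Dvd.intro _ (Subgroup.relIndex_mul_relIndex _ _ M hV.1 (Subgroup.commutator_le_self M))
    · exact (sigma_hall hG hM).2.2 p hp' hpσ h
  have hP := typeP_mk hG hI hM hKU hK1 hV hVn hKV
  by_cases hab : IsMulCommutative V
  · exact Or.inl ⟨K, V, _, hP, hV1, hp, hTI, hab, hN⟩
  · exact Or.inr ⟨K, V, _, hP, hV1, hp, hTI, hab, hN⟩

include hG hI hM in
/-- A failure of the TI property of `M_F`. -/
theorem exists_meet_of_not_TI (h : ¬ Cfsg.IsTISubset (Cfsg.fittingHallOf M : Set G)) :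
    ∃ g : G, g ∉ M ∧
      Cfsg.fittingOf M ⊓ (Cfsg.fittingOf M).map (MulAut.conj g).toMonoidHom ≠ ⊥ := by
  simp only [Cfsg.IsTISubset, not_forall] at h
  obtain ⟨g, hg, x, hx, hxg, hx1⟩ := h
  rw [normalizer_fittingHallOf hG hI hM] at hg
  refine ⟨g, hg, fun hbot => hx1 ?_⟩
  have hle := fittingHallOf_le_fittingOf hG hI hM
  have h1 : g * x * g⁻¹ ∈ Cfsg.fittingOf M ⊓ (Cfsg.fittingOf M).map (MulAut.conj g).toMonoidHom :=
    ⟨hle hxg, mem_cj_self.mpr (hle hx)⟩
  rw [hbot, Subgroup.mem_bot] at h1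
  exact conj_eq_one_iff.mp h1

include hG hI hM hKU in
/-- BG 16: `U = 1`, `M_F = M_σ` gives Type V. -/
theorem typeV_of (hK1 : K ≠ ⊥) (hU : U = ⊥) (heq : Cfsg.fittingHallOf M = Cfsg.sigmaCore M) :
    Cfsg.IsOfTypeV M := by
  set H := Cfsg.fittingHallOf M with hH
  have hD : ⁅M, M⁆ = H := (sigmaCore_eq_derived_of_bot hG hI hM hKU hK1 hU).trans heq.symm
  have hV : Cfsg.IsComplIn H ⊥ ⁅M, M⁆ :=
    ⟨hD.ge, bot_le, inf_bot_eq H, fun m hm => ⟨m, hD.le hm, 1, one_mem _, (mul_one m).symm⟩⟩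
  have hP := typeP_mk hG hI hM hKU hK1 hV inferInstance (fun k _ => by
    rw [Subgroup.normalizer_eq_top_iff.mpr inferInstance]; exact Subgroup.mem_top k)
  refine ⟨K, ⊥, _, hP, rfl, ?_⟩
  by_cases hTI : Cfsg.IsTISubset (H : Set G)
  · exact Or.inl hTI
  refine Or.inr ?_
  obtain ⟨g, hg, hX⟩ := exists_meet_of_not_TI hG hI hM hTI
  obtain ⟨⟨hXH, -⟩, -, hcase⟩ := hI.fittingTI M hM K U hKU g hg hX
  have hc : Cfsg.IsComplIn H K M := hD ▸ derived_compl hG hI hM hKU hK1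
  have hrel : H.relIndex M = Nat.card K := IsComplIn.relIndex_left hc
  rcases hcase with ⟨h, -⟩ | ⟨p, hp, hXp, -, -, -, hcyc, hexp⟩ | ⟨p, hp, hXp, -, -, hcyc, hcard, -, -, -, hdvd⟩
  · exact absurd h hK1
  · have hpH : p ∣ Nat.card H := hXp ▸ Subgroup.card_dvd_of_le hXH
    refine Or.inl ⟨p, hp, hpH, ?_, hcyc⟩
    refine Dvd.dvd.trans ?_ (hexp p hp hpH)
    have hKM : K ≤ M := hKU.hall.1
    set f : K →* M ⧸ Cfsg.fittingHall M :=
      (QuotientGroup.mk' (Cfsg.fittingHall M)).comp (Subgroup.inclusion hKM) with hf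
    have hinj : Function.Injective f := by
      rw [← MonoidHom.ker_eq_bot_iff, eq_bot_iff]
      intro v hv
      rw [hf, MonoidHom.mem_ker, MonoidHom.comp_apply, QuotientGroup.mk'_apply,
        QuotientGroup.eq_one_iff] at hv
      have h1 : (v : G) ∈ H ⊓ K := ⟨⟨_, hv, rfl⟩, v.2⟩
      rw [hc.2.2.1, Subgroup.mem_bot] at h1
      exact Subgroup.mem_bot.mpr (Subtype.ext h1)
    have := hKU.cyclic
    obtain ⟨k, hk⟩ := IsCyclic.exists_ofOrder_eq_natCard (α := K)
    rw [← hk, ← orderOf_injective f hinj k]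
    exact Monoid.order_dvd_exponent _
  · exact Or.inr ⟨p, hp, hXp ▸ Subgroup.card_dvd_of_le hXH, hcard, hrel ▸ hdvd, hcyc⟩

end CfsgLib.OddOrder42
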