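import Mathlib
import Cfsg.Agent.Lib.OddOrder42.TypeMk16
import Cfsg.Agent.Lib.OddOrder38.KappaTI
import Cfsg.Agent.Lib.PF.Sets8

/-!
# BG §16: Type I
-/

set_option autoImplicit false
set_option linter.unusedSectionVars false

namespace CfsgLib.OddOrder42

open Subgroup CfsgLib.OddOrder CfsgLib.OddOrder.Transitivity CfsgLib.OddOrder38
open scoped commutatorElement

universe u

variable {G : Type u} [Group G] [Finite G] (hG : Cfsg.IsMinSimpleOddOrder G) (hI : Inputs G)
  {M : Subgroup G} (hM : IsCoatom M)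

include hG hI hM in
/-- A `σ`-element in `F(M) ∩ F(M)^g`, `g ∉ M`, has its centralizer outside `M`. -/
theorem not_centralizer_le_of_meet {g x : G} (hg : g ∉ M) (hx1 : x ≠ 1)
    (hxS : x ∈ Cfsg.sigmaCore M) (hxg : x ∈ cj g (Cfsg.fittingOf M)) :
    ¬ Subgroup.centralizer ({x} : Set G) ≤ M := by
  intro hC
  have hS1 : Cfsg.sigmaCore M ≠ ⊥ := fun h => hx1 (by rw [h] at hxS; exact Subgroup.mem_bot.mp hxS)
  have hf : g⁻¹ * x * g ∈ Cfsg.sigmaCore M := by
    refine Subgroup.zpowers_le.mp (le_sigmaCore hG hM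
      (Subgroup.zpowers_le.mpr (fittingOf_le M (mem_cj.mp hxg))) fun p hp hd => ?_)
    refine mem_sigma_of_mem_sigmaCore hxS hp ?_
    rw [Nat.card_zpowers] at hd
    rwa [show g⁻¹ * x * g = MulAut.conj g⁻¹ x by simp, MulEquiv.orderOf_eq] at hd
  obtain ⟨n, hn, he⟩ := (hI.hallFusion M hM (Cfsg.sigmaCore M) le_rfl hS1
    (by rw [Subgroup.relIndex_self]; exact Nat.coprime_one_right _)).2 x hxS g⁻¹ (by rwa [inv_inv])
  rw [inv_inv] at he
  have h1 : g * n ∈ M := hC (Subgroup.mem_centralizer_singleton_iff.mpr (by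
    calc g * n * x = g * (n * x * n⁻¹) * n := by group
      _ = g * (g⁻¹ * x * g) * n := by rw [he]
      _ = x * (g * n) := by group))
  exact hg (by simpa using M.mul_mem h1 (M.inv_mem (Subgroup.mem_inf.mp hn).1))

variable {K U : Subgroup G} (hKU : Cfsg.IsSigmaDecomposition M K U) (hK : K = ⊥)

include hKU hK in
theorem compl_of_bot : Cfsg.IsComplIn U (Cfsg.sigmaCore M) M := by
  have h := hKU.compl
  rwa [hK, bot_sup_eq] at h

include hG hI hM hKU hK in
theorem fittingHallOf_eq_of_bot : Cfsg.fittingHallOf M = Cfsg.sigmaCore M :=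
  fittingHallOf_eq hG hI hM hKU (U_ne_bot_of_bot hG hI hM hKU hK)

include hG hI hM in
/-- In a Frobenius `M`, `O_{p'}(M) ≤ M_F`, so it is cyclic as soon as `O_{p'}(M_F)` is. -/
theorem pPrimeCore_cyclic
    (hfr : ∀ x ∈ Cfsg.fittingHallOf M, x ≠ 1 →
      M ⊓ Subgroup.centralizer ({x} : Set G) ≤ Cfsg.fittingHallOf M)
    {p : ℕ} [hp : Fact p.Prime] (hpH : p ∣ Nat.card (Cfsg.fittingHallOf M))
    (hcyc : IsCyclic (Cfsg.pPrimeCore p ↥(Cfsg.fittingHallOf M))) :
    IsCyclic (Cfsg.pPrimeCore p M) := by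
  set H := Cfsg.fittingHallOf M with hH
  have hHM : H ≤ M := fittingHallOf_le M
  obtain ⟨hT1, hT2, hT3⟩ := piCoreOf_hall (fittingHallOf_isNilpotent M) {p}
  set T := Cfsg.piCoreOf {p} H with hT
  have hTn : M ≤ Subgroup.normalizer (T : Set G) :=
    (fittingHallOf_normal M).trans (Sigma15.normalizer_le_normalizer_piCoreOf {p} H)
  obtain ⟨⟨x, hxH⟩, hxo⟩ := exists_prime_orderOf_dvd_card' (G := H) p hpH
  rw [Subgroup.orderOf_mk] at hxo
  have hx1 : x ≠ 1 := fun h => hp.out.ne_one (by rw [← hxo, h, orderOf_one])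
  have hxT : x ∈ T := hT3 x hxH fun q hq hd => Set.mem_singleton_iff.mpr
    ((Nat.prime_dvd_prime_iff_eq hq hp.out).mp (hxo ▸ hd))
  set N := oPrime p M with hN
  have hNM : N ≤ M := oPrime_le M
  have hNn : M ≤ Subgroup.normalizer (N : Set G) := oPrime_normal M
  have hNc : (Nat.card N).Coprime p := oPrime_coprime M
  have hNT : N ≤ Subgroup.centralizer (T : Set G) := by
    refine commute_of_normalizes (hNM.trans hTn) (((piCoreOf_le _ _).trans hHM).trans hNn) fun y hyN hyT => ?_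
    by_contra hy1
    obtain ⟨q, hq, hd⟩ := Nat.exists_prime_and_dvd (n := orderOf y)
      fun h => hy1 (orderOf_eq_one_iff.mp h)
    have h1 : q = p := Set.mem_singleton_iff.mp (hT1 q hq (hd.trans (Subgroup.orderOf_dvd_natCard _ hyT)))
    exact hp.out.ne_one (Nat.eq_one_of_dvd_coprimes hNc
      (h1 ▸ hd.trans (Subgroup.orderOf_dvd_natCard _ hyN)) dvd_rfl)
  have hNH : N ≤ H := fun n hn => hfr x hxH hx1 ⟨hNM hn, Subgroup.mem_centralizer_singleton_iff.mpr
    (Subgroup.mem_centralizer_iff.mp (hNT hn) x hxT).symm⟩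
  have h1 : N ≤ oPrime p H := le_oPrime hNH (hHM.trans hNn) hNc
  have : IsCyclic (oPrime p H) := by
    have e := (Cfsg.pPrimeCore p ↥H).equivMapOfInjective _ H.subtype_injective
    exact isCyclic_of_surjective e e.surjective
  have hNcyc : IsCyclic N :=
    isCyclic_of_injective (Subgroup.inclusion h1) (Subgroup.inclusion_injective h1)
  have e := (Cfsg.pPrimeCore p M).equivMapOfInjective _ M.subtype_injective
  have : IsCyclic ↥((Cfsg.pPrimeCore p M).map M.subtype) := hNcyc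
  exact isCyclic_of_surjective e.symm e.symm.surjective

include hG hI hM hKU hK in
/-- BG 16: `K = 1` gives a group of Frobenius type. -/
theorem typeF_of : Cfsg.IsOfTypeF ↥M := by
  set S := Cfsg.sigmaCore M with hS
  have hH := fittingHallOf_eq_of_bot hG hI hM hKU hK
  have hU := U_ne_bot_of_bot hG hI hM hKU hK
  have hc := compl_of_bot hKU hK
  have hcore := hI.core M hM
  obtain ⟨U₀, hU₀, hexp, hfix⟩ := hI.exponentU M hM K U hKU
  have hfrob : Cfsg.IsOfTypeF M := by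
    refine typeF_mk (minSimple_solvable hG hM.1) (minSimple_odd hG M) hH (complIn_symm hc)
      (hH ▸ hcore.1) hU (U₁ := Subgroup.closure ((U : Set G) ∩ Cfsg.sigmaHat M))
      ((Subgroup.closure_le _).mpr Set.inter_subset_left) ?_ (hI.closureAbelian M hM K U hKU)
      (fun u hu x hx hx1 hux => Subgroup.subset_closure ⟨hu, hc.1 hu, x, hx, hx1, hux⟩) hU₀ hexp
      fun u hu hu1 x hx hux => ?_
    · refine le_normalizer_iff.mpr fun g hg z hz => ?_
      refine (Subgroup.closure_le (K := (Subgroup.closure ((U : Set G) ∩ Cfsg.sigmaHat M)).comap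
        (MulAut.conj g).toMonoidHom)).mpr ?_ hz
      rintro a ⟨ha, haM, y, hy, hy1, hay⟩
      refine Subgroup.subset_closure ⟨U.mul_mem (U.mul_mem hg ha) (U.inv_mem hg),
        M.mul_mem (M.mul_mem (hc.1 hg) haM) (M.inv_mem (hc.1 hg)), g * y * g⁻¹,
        conj_mem_of_le_normalizer (le_normalizer_sigmaCore M) (hc.1 hg) hy,
        fun h => hy1 (conj_eq_one_iff.mp h), ?_⟩
      calc g * a * g⁻¹ * (g * y * g⁻¹) = g * (a * y) * g⁻¹ := by group
        _ = g * (y * a) * g⁻¹ := by rw [hay]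
        _ = g * y * g⁻¹ * (g * a * g⁻¹) := by group
    · by_contra hx1
      exact hu1 (hfix u hu ⟨hc.1 (hU₀ hu), x, hx, hx1, hux⟩)
  exact hfrob

include hG hI hM hKU hK in
/-- BG 16: `K = 1` gives the weak Type I. -/
theorem type1_of : PF.OfTypeI M := by
  refine ⟨typeF_of hG hI hM hKU hK, ?_⟩
  by_cases hTI : Cfsg.IsTISubset (Cfsg.fittingHallOf M : Set G)
  · exact Or.inl hTI
  refine Or.inr ?_
  obtain ⟨g, hg, hX⟩ := exists_meet_of_not_TI hG hI hM hTI
  obtain ⟨⟨hXH, -⟩, -, hcase⟩ := hI.fittingTI M hM K U hKU g hg hX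
  rcases hcase with ⟨-, h⟩ | ⟨p, hp, hXp, -, -, -, hcyc, hexp'⟩ | ⟨p, hp, -, -, -, -, -, -, hK1, -⟩
  · exact Or.inl h
  · exact Or.inr ⟨hexp', p, hp, hXp ▸ Subgroup.card_dvd_of_le hXH, hcyc⟩
  · exact absurd hK hK1

/-- A maximal subgroup with `κ(M) = ∅` is Frobenius with kernel `M_F` (Peterfalvi §12). -/
def PropKappaFrobenius (G : Type u) [Group G] : Prop :=
  ∀ M : Subgroup G, IsCoatom M → Cfsg.kappa M = ∅ → ∀ x ∈ Cfsg.fittingHallOf M, x ≠ 1 →
    M ⊓ Subgroup.centralizer ({x} : Set G) ≤ Cfsg.fittingHallOf M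

include hG hI hM hKU hK in
/-- BG 16: `K = 1` gives Type I once `M` is known to be Frobenius. -/
theorem typeI_of (hFr : PropKappaFrobenius G) : Cfsg.IsOfTypeI M := by
  obtain ⟨hF, h⟩ := type1_of hG hI hM hKU hK
  refine ⟨hF, h.imp_right (Or.imp_right ?_)⟩
  rintro ⟨hexp, p, hp, hpH, hcyc⟩
  have := Fact.mk hp
  exact ⟨hexp, p, hp, hpH,
    pPrimeCore_cyclic hG hI hM (hFr M hM ((kappa_eq_empty_iff hKU.hall).mpr hK)) hpH hcyc⟩

end CfsgLib.OddOrder42
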