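import Mathlib
import Cfsg.Agent.Lib.OddOrder42.TypeI16
import Cfsg.Agent.Lib.OddOrder42.Core16

/-!
# BG §16: the dictionary between types and factorisations
-/

set_option autoImplicit false
set_option linter.unusedSectionVars false

namespace CfsgLib.OddOrder42

open Subgroup CfsgLib.OddOrder CfsgLib.OddOrder.Transitivity CfsgLib.OddOrder38

universe u

variable {G : Type u} [Group G] [Finite G] (hG : Cfsg.IsMinSimpleOddOrder G) (hI : Inputs G)
  {M : Subgroup G} (hM : IsCoatom M)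

/-- The set `Ẑ = K K* ∖ (K ∪ K*)`. -/
def zSet (M K : Subgroup G) : Set G :=
  (↑(K ⊔ (Cfsg.sigmaCore M ⊓ Subgroup.centralizer (K : Set G))) : Set G) \
    ((K : Set G) ∪ ↑(Cfsg.sigmaCore M ⊓ Subgroup.centralizer (K : Set G)))

include hG hI hM in
/-- Type P and Frobenius type exclude each other. -/
theorem not_typeF_of_typeP {W₁ V W₂ : Subgroup G} (hP : Cfsg.IsTypePWith M W₁ V W₂) :
    ¬ Cfsg.IsOfTypeF ↥M := by
  rintro ⟨-, -, -, -, V', -, hc, -, V₀, -, hexp, hfpf⟩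
  obtain ⟨r, hr, hrd⟩ := Nat.exists_prime_and_dvd (n := Nat.card W₁)
    fun h => hP.W₁_ne (Subgroup.card_eq_one.mp h)
  have := Fact.mk hr
  obtain ⟨⟨w, hw⟩, hwo⟩ := exists_prime_orderOf_dvd_card' (G := W₁) r hrd
  rw [Subgroup.orderOf_mk] at hwo
  have hw1 : w ≠ 1 := fun h => hr.ne_one (by rw [← hwo, h, orderOf_one])
  obtain ⟨y, hy, hy1⟩ := (Subgroup.bot_or_exists_ne_one W₂).resolve_left hP.selfNormalizing.2.1
  have hwy : w * y = y * w := hP.selfNormalizing.2.2.2.1 w hw y hy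
  have hyH : y ∈ Cfsg.fittingHallOf M := (Subgroup.mem_inf.mp (hP.W₂_le hy)).1
  have hW₁M : W₁ ≤ M := hP.W₁_compl.2.1
  have hrH : ¬ r ∣ Nat.card (Cfsg.fittingHallOf M) := fun h => by
    have hH := hI.core M hM
    have h1 : W₁.relIndex M = Nat.card ↥⁅M, M⁆ :=
      IsComplIn.relIndex_left (complIn_symm hP.W₁_compl)
    exact hr.ne_one (Nat.eq_one_of_dvd_coprimes hP.W₁_hall hrd
      (h1.symm ▸ h.trans (Subgroup.card_dvd_of_le (hH.2.1.trans hH.2.2.1))))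
  have hrV : r ∣ Nat.card V' := by
    have h1 : r ∣ Nat.card M := hrd.trans (Subgroup.card_dvd_of_le hW₁M)
    rw [← hc.card_mul_card, ← card_fittingHallOf] at h1
    exact (hr.dvd_mul.mp h1).resolve_left hrH
  obtain ⟨v, hv⟩ := exists_prime_orderOf_dvd_card' (G := V') r hrV
  have hrexp : r ∣ Monoid.exponent V₀ := by
    rw [hexp, ← hv]
    exact Monoid.order_dvd_exponent v
  obtain ⟨⟨u, hu⟩, huo⟩ := exists_prime_orderOf_dvd_card' (G := V₀) r
    (hrexp.trans Group.exponent_dvd_nat_card)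
  rw [Subgroup.orderOf_mk, ← Subgroup.orderOf_coe] at huo
  have := minSimple_solvable hG hM.1
  obtain ⟨m, hm, hle⟩ := OddOrder41.exists_conj_into (π := {r}) hW₁M
    (fun t ht htr hd => by
      rw [Set.mem_singleton_iff.mp htr] at hd
      exact hr.ne_one (Nat.eq_one_of_dvd_coprimes hP.W₁_hall hrd hd))
    (Subgroup.zpowers_le.mpr u.2)
    (fun t ht hd => Set.mem_singleton_iff.mpr ((Nat.prime_dvd_prime_iff_eq ht hr).mp
      (by rwa [Nat.card_zpowers, huo] at hd)))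
  have heq : cj m (Subgroup.zpowers (u : G)) = Subgroup.zpowers w :=
    eq_of_card_eq_cyclic hP.W₁_cyclic hle (Subgroup.zpowers_le.mpr hw)
      (by rw [card_cj, Nat.card_zpowers, Nat.card_zpowers, huo, hwo])
  have hmu : m * (u : G) * m⁻¹ ∈ Subgroup.zpowers w :=
    heq ▸ mem_cj_self.mpr (Subgroup.mem_zpowers _)
  obtain ⟨i, hi⟩ := Subgroup.mem_zpowers_iff.mp hmu
  have hcomm : Commute (m * (u : G) * m⁻¹) y := hi ▸ (show Commute w y from hwy).zpow_left i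
  have hy' : m⁻¹ * y * m ∈ Cfsg.fittingHallOf M := by
    simpa using conj_mem_of_le_normalizer (fittingHallOf_normal M) (M.inv_mem hm) hyH
  obtain ⟨y', hy'm, hye⟩ := hy'
  have hu1 : u ≠ 1 := fun h => hr.ne_one (by rw [← huo, h, OneMemClass.coe_one, orderOf_one])
  have h1 := hfpf u hu hu1 y' hy'm (Subtype.ext (by
    show (u : G) * (y' : G) = (y' : G) * (u : G)
    rw [show (y' : G) = m⁻¹ * y * m from hye]
    calc (u : G) * (m⁻¹ * y * m) = m⁻¹ * ((m * (u : G) * m⁻¹) * y) * m := by group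
      _ = m⁻¹ * (y * (m * (u : G) * m⁻¹)) * m := by rw [hcomm.eq]
      _ = m⁻¹ * y * m * (u : G) := by group))
  refine hy1 ?_
  have h2 : m⁻¹ * y * m = 1 := by rw [← hye, h1]; simp
  calc y = m * (m⁻¹ * y * m) * m⁻¹ := by group
    _ = 1 := by rw [h2]; group

include hG hI hM in
/-- Type P and Type I exclude each other. -/
theorem not_typeI_of_typeP {W₁ V W₂ : Subgroup G} (hP : Cfsg.IsTypePWith M W₁ V W₂) :
    ¬ Cfsg.IsOfTypeI M := fun h => not_typeF_of_typeP hG hI hM hP h.1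

variable {K U : Subgroup G} (hKU : Cfsg.IsSigmaDecomposition M K U)

include hG hI hM hKU in
theorem exists_typeP (hK1 : K ≠ ⊥) :
    ∃ V : Subgroup G, Cfsg.IsTypePWith M K V (Cfsg.sigmaCore M ⊓ Subgroup.centralizer (K : Set G)) := by
  obtain ⟨V, hV, hVn, hKV⟩ := exists_derived_complement hG hI hM hKU hK1
  exact ⟨V, typeP_mk hG hI hM hKU hK1 hV hVn hKV⟩

include hG hI hM hKU in
theorem typeI_iff (hFr : PropKappaFrobenius G) : Cfsg.IsOfTypeI M ↔ (K = ⊥ ∧ U ≠ ⊥) :=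
  ⟨fun h => by
    have hK : K = ⊥ := by
      by_contra hK1
      obtain ⟨V, hP⟩ := exists_typeP hG hI hM hKU hK1
      exact not_typeI_of_typeP hG hI hM hP h
    exact ⟨hK, U_ne_bot_of_bot hG hI hM hKU hK⟩, fun h => typeI_of hG hI hM hKU h.1 hFr⟩

include hG hI hM hKU in
theorem K_eq_of_typeI (h : Cfsg.IsOfTypeI M) : K = ⊥ := by
  by_contra hK1
  obtain ⟨V, hP⟩ := exists_typeP hG hI hM hKU hK1
  exact not_typeI_of_typeP hG hI hM hP h

include hG hI hM hKU in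
theorem K_ne_of_typeP {W₁ V W₂ : Subgroup G} (hP : Cfsg.IsTypePWith M W₁ V W₂) : K ≠ ⊥ := fun hK =>
  not_typeF_of_typeP hG hI hM hP (typeF_of hG hI hM hKU hK)

include hG hI hM in
/-- The condition `N(V) ≤ M` does not depend on the complement. -/
theorem compl_normalizer_le {A B : Subgroup G} (hA : Cfsg.IsComplIn (Cfsg.fittingHallOf M) A ⁅M, M⁆)
    (hB : Cfsg.IsComplIn (Cfsg.fittingHallOf M) B ⁅M, M⁆)
    (h : Subgroup.normalizer (A : Set G) ≤ M) : Subgroup.normalizer (B : Set G) ≤ M := by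
  have hne : ⁅M, M⁆ ≠ ⊤ := fun e => hM.1 (top_le_iff.mp (e ▸ Subgroup.commutator_le_self M))
  have := minSimple_solvable hG hne
  have hc : (Nat.card (Cfsg.fittingHallOf M)).Coprime (Nat.card A) := by
    rw [← IsComplIn.relIndex_left hA]
    exact (fittingHallOf_coprime_relIndex M).coprime_dvd_right
      (Dvd.intro _ (Subgroup.relIndex_mul_relIndex _ _ M hA.1 (Subgroup.commutator_le_self M)))
  obtain ⟨g, hg, rfl⟩ := exists_conj_complIn hA hB hc
  rw [← OddOrder41.cj_normalizer]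
  refine (cj_mono h).trans (le_of_eq ?_)
  exact cj_eq_of_mem_normalizer (Subgroup.le_normalizer (Subgroup.commutator_le_self M hg))

omit [Finite G] in
theorem compl_eq_bot_of_derived_le {V : Subgroup G}
    (hV : Cfsg.IsComplIn (Cfsg.fittingHallOf M) V ⁅M, M⁆) (h : ⁅M, M⁆ ≤ Cfsg.fittingHallOf M) : V = ⊥ :=
  le_bot_iff.mp (hV.2.2.1 ▸ le_inf (hV.2.1.trans h) le_rfl)

include hG hI hM hKU in
theorem typeII_iff : Cfsg.IsOfTypeII M ↔ (K ≠ ⊥ ∧ U ≠ ⊥) := by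
  refine ⟨?_, fun h => typeII_of hG hI hM hKU h.1 h.2⟩
  rintro ⟨W₁, V, W₂, hP, hV1, -, -, -, hN, -, -⟩
  have hK1 := K_ne_of_typeP hG hI hM hKU hP
  refine ⟨hK1, fun hU => ?_⟩
  have hD := sigmaCore_eq_derived_of_bot hG hI hM hKU hK1 hU
  by_cases heq : Cfsg.fittingHallOf M = Cfsg.sigmaCore M
  · exact hV1 (compl_eq_bot_of_derived_le hP.U_compl (hD.trans heq.symm).le)
  rcases typeIII_IV_of hG hI hM hKU hK1 heq with ⟨_, V', _, hP', -, -, -, -, hN'⟩ | ⟨_, V', _, hP', -, -, -, -, hN'⟩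
  · exact hN (compl_normalizer_le hG hI hM hP'.U_compl hP.U_compl hN')
  · exact hN (compl_normalizer_le hG hI hM hP'.U_compl hP.U_compl hN')

include hG hI hM hKU in
theorem typeIII_IV_iff : (Cfsg.IsOfTypeIII M ∨ Cfsg.IsOfTypeIV M) ↔
    (K ≠ ⊥ ∧ U = ⊥ ∧ Cfsg.fittingHallOf M ≠ Cfsg.sigmaCore M) := by
  refine ⟨fun h => ?_, fun h => typeIII_IV_of hG hI hM hKU h.1 h.2.2⟩
  obtain ⟨W₁, V, W₂, hP, hV1, hN⟩ : ∃ W₁ V W₂ : Subgroup G, Cfsg.IsTypePWith M W₁ V W₂ ∧ V ≠ ⊥ ∧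
      Subgroup.normalizer (V : Set G) ≤ M := by
    rcases h with ⟨W₁, V, W₂, hP, h1, -, -, -, h2⟩ | ⟨W₁, V, W₂, hP, h1, -, -, -, h2⟩
    · exact ⟨W₁, V, W₂, hP, h1, h2⟩
    · exact ⟨W₁, V, W₂, hP, h1, h2⟩
  have hK1 := K_ne_of_typeP hG hI hM hKU hP
  have hU : U = ⊥ := by
    by_contra hU
    exact (hI.uAbelian M hM K U hKU hK1).2
      (compl_normalizer_le hG hI hM hP.U_compl (U_compl_derived hG hI hM hKU hK1 hU) hN)
  exact ⟨hK1, hU, fun heq => hV1 (compl_eq_bot_of_derived_le hP.U_compl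
    ((sigmaCore_eq_derived_of_bot hG hI hM hKU hK1 hU).trans heq.symm).le)⟩

include hG hI hM hKU in
theorem typeV_iff : Cfsg.IsOfTypeV M ↔
    (K ≠ ⊥ ∧ U = ⊥ ∧ Cfsg.fittingHallOf M = Cfsg.sigmaCore M) := by
  refine ⟨?_, fun h => typeV_of hG hI hM hKU h.1 h.2.1 h.2.2⟩
  rintro ⟨W₁, V, W₂, hP, hV, -⟩
  have hK1 := K_ne_of_typeP hG hI hM hKU hP
  have hD : ⁅M, M⁆ = Cfsg.fittingHallOf M := by
    rw [← complIn_sup hP.U_compl, hV, sup_bot_eq]
  have hU : U = ⊥ := by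
    by_contra hU
    have h1 := derived_compl_U hG hI hM hKU hK1
    exact hU (le_bot_iff.mp (h1.2.2.1 ▸ le_inf (h1.2.1.trans
      (hD.trans (fittingHallOf_eq hG hI hM hKU hU)).le) le_rfl))
  exact ⟨hK1, hU, hD.symm.trans (sigmaCore_eq_derived_of_bot hG hI hM hKU hK1 hU)⟩

include hG hI hM in
/-- `M_s = M_σ` in every case. -/
theorem typeCore_eq : Cfsg.typeCore M = Cfsg.sigmaCore M := by
  obtain ⟨K, U, hKU⟩ := exists_decomp hG hI hM
  rw [Cfsg.typeCore]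
  split_ifs with h
  · obtain ⟨hK1, hU, -⟩ := (typeIII_IV_iff hG hI hM hKU).mp h
    exact sigmaCore_eq_derived_of_bot hG hI hM hKU hK1 hU
  · by_contra hne
    have hU : U = ⊥ := by
      by_contra hU
      exact hne (fittingHallOf_eq hG hI hM hKU hU)
    exact h ((typeIII_IV_iff hG hI hM hKU).mpr
      ⟨fun hK => U_ne_bot_of_bot hG hI hM hKU hK hU, hU, hne⟩)

include hG hI hM in
theorem typeA1_eq : Cfsg.typeA1 M = (Cfsg.sigmaCore M : Set G) \ {1} := by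
  rw [Cfsg.typeA1, typeCore_eq hG hI hM]

include hG hI hM hKU in
/-- `A(M)` in both descriptions. -/
theorem typeA_eq (hT₀ : K = ⊥ → Cfsg.IsOfTypeI M) : Cfsg.typeA M = Cfsg.sigmaA M U \ {1} := by
  ext a
  by_cases hK : K = ⊥
  · have hT := hT₀ hK
    rw [Cfsg.typeA, if_pos hT, fittingHallOf_eq_of_bot hG hI hM hKU hK]
    have hUS : U ⊔ Cfsg.sigmaCore M = M := complIn_sup (compl_of_bot hKU hK)
    constructor
    · rintro ⟨haM, ha1, x, hx, hx1, hax⟩
      exact ⟨⟨⟨haM, x, hx, hx1, hax⟩, hUS.ge haM⟩, ha1⟩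
    · rintro ⟨⟨⟨haM, x, hx, hx1, hax⟩, -⟩, ha1⟩
      exact ⟨haM, ha1, x, hx, hx1, hax⟩
  · have hT : ¬ Cfsg.IsOfTypeI M := fun h => hK (K_eq_of_typeI hG hI hM hKU h)
    rw [Cfsg.typeA, if_neg hT, typeCore_eq hG hI hM, derived_eq hG hI hM hKU hK]
    constructor
    · rintro ⟨haD, ha1, x, hx, hx1, hax⟩
      refine ⟨⟨⟨?_, x, hx, hx1, hax⟩, haD⟩, ha1⟩
      exact (sup_le hKU.compl.1 (piCoreOf_le _ _) : U ⊔ Cfsg.sigmaCore M ≤ M) haD
    · rintro ⟨⟨⟨-, x, hx, hx1, hax⟩, haD⟩, ha1⟩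
      exact ⟨haD, ha1, x, hx, hx1, hax⟩

include hG hI hM hKU in
/-- Type P data are conjugate to `(K, K*)`. -/
theorem typeP_pair {W₁ V W₂ : Subgroup G} (hP : Cfsg.IsTypePWith M W₁ V W₂) :
    ∃ g ∈ M, W₁ = cj g K ∧ W₂ = cj g (Cfsg.sigmaCore M ⊓ Subgroup.centralizer (K : Set G)) := by
  have hK1 := K_ne_of_typeP hG hI hM hKU hP
  have := minSimple_solvable hG hM.1
  obtain ⟨g, hg, rfl⟩ := exists_conj_complIn (derived_compl hG hI hM hKU hK1) hP.W₁_compl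
    (coprime_derived hG hI hM hKU hK1).symm
  refine ⟨g, hg, rfl, ?_⟩
  have hd := decomp_conj hKU hg
  have hgK : cj g K ≠ ⊥ := hP.W₁_ne
  obtain ⟨x, hx, hx1⟩ := (Subgroup.bot_or_exists_ne_one (cj g K)).resolve_left hgK
  rw [← hP.W₂_centralizer x hx hx1, derived_centralizer hG hI hM hd hgK hx hx1,
    show cj g (Cfsg.sigmaCore M ⊓ Subgroup.centralizer (K : Set G)) =
      cj g (Cfsg.sigmaCore M) ⊓ cj g (Subgroup.centralizer (K : Set G)) from
      Subgroup.map_inf _ _ _ (MulAut.conj g).injective]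
  congr 1
  · exact (cj_eq_of_mem_normalizer (le_normalizer_sigmaCore M hg)).symm
  · exact (OddOrder41.cj_centralizer g K).symm

include hG hI hM hKU in
/-- `A₀(M)` in both descriptions. -/
theorem typeA0_eq : Cfsg.typeA0 M =
    Cfsg.typeA M ∪ {v | K ≠ ⊥ ∧ ∃ m ∈ M, ∃ z ∈ zSet M K, v = m * z * m⁻¹} := by
  rw [Cfsg.typeA0]
  congr 1
  ext v
  constructor
  · rintro ⟨-, W₁, V, W₂, hP, m, hm, w, hw, hw1, hw2, rfl⟩
    obtain ⟨g, hg, rfl, rfl⟩ := typeP_pair hG hI hM hKU hP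
    rw [← Subgroup.map_sup] at hw
    obtain ⟨z, hz, rfl⟩ := hw
    refine ⟨K_ne_of_typeP hG hI hM hKU hP, m * g, M.mul_mem hm hg, z, ⟨hz, ?_⟩, ?_⟩
    · rintro (h | h)
      · exact hw1 ⟨z, h, rfl⟩
      · exact hw2 ⟨z, h, rfl⟩
    · show m * (g * z * g⁻¹) * m⁻¹ = m * g * z * (m * g)⁻¹
      group
  · rintro ⟨hK1, m, hm, z, ⟨hz, hz'⟩, rfl⟩
    obtain ⟨V, hP⟩ := exists_typeP hG hI hM hKU hK1
    exact ⟨not_typeI_of_typeP hG hI hM hP, K, V, _, hP, m, hm, z, hz, fun h => hz' (Or.inl h),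
      fun h => hz' (Or.inr h), rfl⟩

include hG hI hM hKU in
/-- The choice-free `A(M)`. -/
theorem setA_eq : PF.setA M = Cfsg.sigmaA M U \ {1} := by
  have hle : U ⊔ Cfsg.sigmaCore M ≤ M := sup_le hKU.compl.1 (piCoreOf_le _ _)
  have hcard : Nat.card ↥(U ⊔ Cfsg.sigmaCore M) = Nat.card U * Nat.card (Cfsg.sigmaCore M) :=
    decomp_card_sup hG hM hKU
  have hcop : (Nat.card K).Coprime (Nat.card ↥(U ⊔ Cfsg.sigmaCore M)) :=
    hcard ▸ decomp_coprime hG hM hKU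
  ext a
  constructor
  · rintro ⟨ha, ha1, hκ⟩
    refine ⟨⟨ha, ?_⟩, ha1⟩
    refine mem_of_coprime_relIndex hle (OddOrder41.Hall14.decomposition_normal hG hM hKU) ha.1 ?_
    have h1 := (card_mul_relIndex_of_le hle).trans (decomp_card hKU).symm
    have h3 : (U ⊔ Cfsg.sigmaCore M).relIndex M = Nat.card K :=
      Nat.eq_of_mul_eq_mul_left (Nat.card_pos (α := ↥(U ⊔ Cfsg.sigmaCore M)))
        (h1.trans (by rw [hcard]; ring))
    rw [h3]
    exact coprime_of_forall fun p hp d1 d2 => hκ p hp d1 (hKU.hall.2.1 p hp d2)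
  · rintro ⟨⟨ha, haD⟩, ha1⟩
    refine ⟨ha, ha1, fun p hp hd hκ => ?_⟩
    have h1 : p ∣ Nat.card K := by
      have h2 : p ∣ Nat.card M := hκ.2.1
      rw [← card_mul_relIndex_of_le hKU.hall.1] at h2
      exact (hp.dvd_mul.mp h2).resolve_right (hKU.hall.2.2 p hp hκ)
    exact hp.ne_one (Nat.eq_one_of_dvd_coprimes hcop h1
      (hd.trans (Subgroup.orderOf_dvd_natCard _ haD)))

include hG hI hM hKU in
/-- The choice-free `A₀(M)`. -/
theorem setA0_eq : PF.setA0 M =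
    PF.setA M ∪ {v | K ≠ ⊥ ∧ ∃ m ∈ M, ∃ z ∈ zSet M K, v = m * z * m⁻¹} := by
  set Ks := Cfsg.sigmaCore M ⊓ Subgroup.centralizer (K : Set G) with hKs
  ext v
  constructor
  · rintro ⟨hv, hv1, p, hp, hpd, hpκ⟩
    by_cases hall : ∀ q : ℕ, q.Prime → q ∣ orderOf v → q ∉ Cfsg.kappa M
    · exact Or.inl ⟨hv, hv1, hall⟩
    refine Or.inr ?_
    simp only [not_forall, not_not] at hall
    obtain ⟨q, hq, hqd, hqκ⟩ := hall
    obtain ⟨a, b, hab, ha, hb, haκ, hbκ⟩ := exists_parts (Cfsg.kappa M) v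
    have hcom : Commute a b := by
      obtain ⟨i, rfl⟩ := Subgroup.mem_zpowers_iff.mp ha
      obtain ⟨j, rfl⟩ := Subgroup.mem_zpowers_iff.mp hb
      exact (Commute.refl v).zpow_zpow i j
    have hordv : orderOf v = orderOf a * orderOf b := by
      rw [hab]
      exact hcom.orderOf_mul_eq_mul_orderOf_of_coprime
        (coprime_of_forall fun t ht d1 d2 => hbκ t ht d2 (haκ t ht d1))
    have hva : a ≠ 1 := fun h => by
      rw [hordv, h, orderOf_one, one_mul] at hqd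
      exact hbκ q hq hqd hqκ
    have := minSimple_solvable hG hM.1
    have haM : a ∈ M := Subgroup.zpowers_le.mpr hv.1 ha
    obtain ⟨g, hg, hgK⟩ := OddOrder41.exists_conj_into hKU.hall.1 hKU.hall.2.2
      (Subgroup.zpowers_le.mpr haM) fun t ht htd => haκ t ht (by rwa [Nat.card_zpowers] at htd)
    have hkK : g * a * g⁻¹ ∈ K := hgK (mem_cj_self.mpr (Subgroup.mem_zpowers a))
    have hk1 : g * a * g⁻¹ ≠ 1 := fun h => hva (conj_eq_one_iff.mp h)
    have hK1 : K ≠ ⊥ := fun h => hk1 (Subgroup.mem_bot.mp (h.le hkK))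
    have hz : g * v * g⁻¹ ∈ K ⊔ Ks := by
      rw [hKs, ← (OddOrder41.Hall14.centralizer_structure hG hM hKU.cyclic hKU.hall).2 hK1 _ hkK hk1]
      refine ⟨M.mul_mem (M.mul_mem hg hv.1) (M.inv_mem hg), Subgroup.mem_centralizer_singleton_iff.mpr ?_⟩
      have hva' : v * a = a * v := by rw [hab, mul_assoc, ← hcom.eq]
      calc g * v * g⁻¹ * (g * a * g⁻¹) = g * (v * a) * g⁻¹ := by group
        _ = g * (a * v) * g⁻¹ := by rw [hva']
        _ = g * a * g⁻¹ * (g * v * g⁻¹) := by group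
    have hord : orderOf (g * v * g⁻¹) = orderOf v := by rw [← MulAut.conj_apply, MulEquiv.orderOf_eq]
    refine ⟨hK1, g⁻¹, M.inv_mem hg, g * v * g⁻¹, ⟨hz, ?_⟩, by group⟩
    rintro (h | h)
    · exact hpκ (hKU.hall.2.1 p hp ((hord ▸ hpd).trans (Subgroup.orderOf_dvd_natCard K h)))
    · exact hqκ.2.2.1 (sigma_piNat M q hq ((hord ▸ hqd).trans
        (Subgroup.orderOf_dvd_natCard _ (Subgroup.mem_inf.mp h).1)))
  · rintro (⟨hv, hv1, hall⟩ | ⟨hK1, m, hm, z, ⟨hz, hz'⟩, rfl⟩)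
    · obtain ⟨p, hp, hd⟩ := Nat.exists_prime_and_dvd (n := orderOf v)
        fun h => hv1 (orderOf_eq_one_iff.mp h)
      exact ⟨hv, hv1, p, hp, hd, hall p hp hd⟩
    have hKn : K ≤ Subgroup.normalizer (Ks : Set G) := le_trans (fun k hk =>
      Subgroup.mem_centralizer_iff.mpr fun c hc => (commute_kstar hG hI hM hKU hk hc).eq.symm)
      (Subgroup.centralizer_le_normalizer _)
    obtain ⟨k, hk, c, hc, rfl⟩ := CfsgLib.Coprime.exists_mul_of_mem_sup hKn hz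
    have hc1 : c ≠ 1 := fun h => hz' (Or.inl (by rw [h, mul_one]; exact hk))
    have hkc : Commute k c := commute_kstar hG hI hM hKU hk hc
    have hcS : c ∈ Cfsg.sigmaCore M := (Subgroup.mem_inf.mp hc).1
    have hmc : m * c * m⁻¹ ∈ Cfsg.sigmaCore M :=
      conj_mem_of_le_normalizer (le_normalizer_sigmaCore M) hm hcS
    have hzM : k * c ∈ M := M.mul_mem (hKU.hall.1 hk) (piCoreOf_le _ _ hcS)
    refine ⟨⟨M.mul_mem (M.mul_mem hm hzM) (M.inv_mem hm), m * c * m⁻¹, hmc,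
      fun h => hc1 (conj_eq_one_iff.mp h), ?_⟩, fun h => ?_, ?_⟩
    · calc m * (k * c) * m⁻¹ * (m * c * m⁻¹) = m * (k * c * c) * m⁻¹ := by group
        _ = m * (c * (k * c)) * m⁻¹ := by rw [← mul_assoc c k c, ← hkc.eq]
        _ = m * c * m⁻¹ * (m * (k * c) * m⁻¹) := by group
    · exact hz' (Or.inl (by rw [conj_eq_one_iff.mp h]; exact K.one_mem))
    obtain ⟨p, hp, hd⟩ := Nat.exists_prime_and_dvd (n := orderOf c)
      fun h => hc1 (orderOf_eq_one_iff.mp h)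
    have hpσ := mem_sigma_of_mem_sigmaCore hcS hp hd
    refine ⟨p, hp, ?_, fun h => h.2.2.1 hpσ⟩
    rw [← MulAut.conj_apply, MulEquiv.orderOf_eq, hkc.orderOf_mul_eq_mul_orderOf_of_coprime
      (coprime_of_forall fun t ht d1 d2 =>
        (hKU.hall.2.1 t ht (d1.trans (Subgroup.orderOf_dvd_natCard K hk))).2.2.1
          (mem_sigma_of_mem_sigmaCore hcS ht d2))]
    exact hd.mul_left _

end CfsgLib.OddOrder42
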