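import Mathlib
import Cfsg.Agent.Lib.OddOrder42.Types16

/-!
# BG §16: structure of the maximal subgroups
-/

set_option autoImplicit false
set_option linter.unusedSectionVars false

namespace CfsgLib.OddOrder42

open Subgroup CfsgLib.OddOrder CfsgLib.OddOrder.Transitivity CfsgLib.OddOrder38

universe u

variable {G : Type u} [Group G] [Finite G]

theorem pRankLE_one_of_isCyclic {q : ℕ} (hq : q.Prime) {R : Type u} [Group R] [Finite R] (h : IsCyclic R) :
    Cfsg.PRankLE q 1 R := by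
  rw [pRankLE_iff]
  intro A hA
  rw [pow_one]
  have : IsCyclic A := isCyclic_of_injective A.subtype A.subtype_injective
  rw [← IsCyclic.exponent_eq_card]
  exact Nat.le_of_dvd hq.pos (Monoid.exponent_dvd_of_forall_pow_eq_one fun a =>
    Subtype.ext (by simpa using hA.2 a a.2))

/-- A subgroup of `A X` meeting a normal `S ⊇ A` trivially looks like a subgroup of `X`. -/
theorem cyclic_of_le_sup {M S A X C : Subgroup G} (hS : S ≤ M) (hn : M ≤ Subgroup.normalizer (S : Set G))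
    (hX : IsCyclic X) (hXM : X ≤ M) (hAS : A ≤ S) (hXA : X ≤ Subgroup.normalizer (A : Set G))
    (hC : C ≤ A ⊔ X) (hCS : C ⊓ S = ⊥) : IsCyclic C ∧ Nat.card C ∣ Nat.card X := by
  have hnor : (S.subgroupOf M).Normal := (Subgroup.normal_subgroupOf_iff_le_normalizer hS).mpr hn
  have hCM : C ≤ M := hC.trans (sup_le (hAS.trans hS) hXM)
  set f : C →* M ⧸ S.subgroupOf M :=
    (QuotientGroup.mk' (S.subgroupOf M)).comp (Subgroup.inclusion hCM) with hf
  have hinj : Function.Injective f := by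
    rw [← MonoidHom.ker_eq_bot_iff, eq_bot_iff]
    intro v hv
    rw [hf, MonoidHom.mem_ker, MonoidHom.comp_apply, QuotientGroup.mk'_apply,
      QuotientGroup.eq_one_iff] at hv
    have h1 : (v : G) ∈ C ⊓ S := ⟨v.2, hv⟩
    rw [hCS, Subgroup.mem_bot] at h1
    exact Subgroup.mem_bot.mpr (Subtype.ext h1)
  have hrange : f.range ≤ (X.subgroupOf M).map (QuotientGroup.mk' (S.subgroupOf M)) := by
    rintro _ ⟨v, rfl⟩
    have hv := hC v.2
    rw [sup_comm] at hv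
    obtain ⟨y, hy, s, hs, he⟩ := CfsgLib.Coprime.exists_mul_of_mem_sup hXA hv
    refine ⟨⟨y, hXM hy⟩, hy, ?_⟩
    rw [hf, MonoidHom.comp_apply, QuotientGroup.mk'_apply, QuotientGroup.mk'_apply, QuotientGroup.eq]
    show (y⁻¹ * (v : G)) ∈ S
    rw [he, inv_mul_cancel_left]
    exact hAS hs
  have e := Subgroup.subgroupOfEquivOfLe hXM
  have h1 : IsCyclic ↥(X.subgroupOf M) := isCyclic_of_surjective e.symm e.symm.surjective
  have h2 : IsCyclic ↥((X.subgroupOf M).map (QuotientGroup.mk' (S.subgroupOf M))) :=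
    isCyclic_of_surjective _ ((QuotientGroup.mk' (S.subgroupOf M)).subgroupMap_surjective (X.subgroupOf M))
  have h3 : IsCyclic f.range :=
    isCyclic_of_injective (Subgroup.inclusion hrange) (Subgroup.inclusion_injective hrange)
  refine ⟨isCyclic_of_surjective (MonoidHom.ofInjective hinj).symm
    (MonoidHom.ofInjective hinj).symm.surjective, ?_⟩
  rw [Nat.card_congr (MonoidHom.ofInjective hinj).toEquiv]
  exact (Subgroup.card_dvd_of_le hrange).trans
    ((Subgroup.card_map_dvd _ _).trans (dvd_of_eq (Nat.card_congr e.toEquiv)))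

variable (hG : Cfsg.IsMinSimpleOddOrder G) (hI : Inputs G) {M : Subgroup G} (hM : IsCoatom M)

include hG hM in
/-- `M_σ` is a Hall subgroup of `G`. -/
theorem sigmaCore_coprime_index :
    (Nat.card (Cfsg.sigmaCore M)).Coprime (Cfsg.sigmaCore M).index := by
  refine coprime_of_forall fun p hp hd hi => ?_
  have := Fact.mk hp
  have hpσ := sigma_piNat M p hp hd
  obtain ⟨T⟩ : Nonempty (Sylow p M) := inferInstance
  obtain ⟨P, hP⟩ := Sigma10.exists_sylow_of_mem_sigma hpσ (sylowOf_map T)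
  have hle : (P : Subgroup G) ≤ Cfsg.sigmaCore M := by
    refine le_sigmaCore hG hM (hP ▸ Subgroup.map_subtype_le _) fun q hq hqd => ?_
    obtain ⟨n, hn⟩ := P.isPGroup'.exists_card_eq
    rwa [(Nat.prime_dvd_prime_iff_eq hq hp).mp (hq.dvd_of_dvd_pow (hn ▸ hqd))]
  exact P.not_dvd_index (hi.trans (Subgroup.index_dvd_of_le hle))

include hG hI hM in
/-- BG 16: Sylow normalizers and Hall property of `M_s`. -/
theorem typeCore_sylow :
    (∀ (p : ℕ), p.Prime → ∀ (P : Sylow p ↥(Cfsg.typeCore M)), (P : Subgroup ↥(Cfsg.typeCore M)) ≠ ⊥ →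
        Subgroup.normalizer ((((P : Subgroup ↥(Cfsg.typeCore M)).map (Cfsg.typeCore M).subtype : Subgroup G)) : Set G) ≤ M) ∧
      (Nat.card (Cfsg.fittingHallOf M)).Coprime (Cfsg.fittingHallOf M).index ∧
      (Nat.card (Cfsg.typeCore M)).Coprime (Cfsg.typeCore M).index := by
  have hc := sigmaCore_coprime_index hG hM
  have hFS := (hI.core M hM).2.1
  have hSM : Cfsg.sigmaCore M ≤ M := piCoreOf_le _ _
  rw [typeCore_eq hG hI hM]
  refine ⟨fun p hp P hP => ?_, ?_, hc⟩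
  · have := Fact.mk hp
    have hPd : p ∣ Nat.card (P : Subgroup ↥(Cfsg.sigmaCore M)) := by
      obtain ⟨n, hn⟩ := P.isPGroup'.exists_card_eq
      rw [hn]
      exact dvd_pow_self p fun h0 => hP (Subgroup.card_eq_one.mp (by rw [hn, h0, pow_zero]))
    have hpσ := sigma_piNat M p hp (hPd.trans (Subgroup.card_subgroup_dvd_card _))
    refine Sigma10.normalizer_le_of_mem_sigma hpσ
      (sylowOf_of_not_dvd ((Subgroup.map_subtype_le _).trans hSM) (P.isPGroup'.map _) fun h => ?_)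
    rw [← Subgroup.relIndex_mul_relIndex _ _ M (Subgroup.map_subtype_le (P : Subgroup ↥(Cfsg.sigmaCore M))) hSM] at h
    rcases hp.dvd_mul.mp h with h | h
    · rw [Subgroup.relIndex, Subgroup.subgroupOf,
        Subgroup.comap_map_eq_self_of_injective (Cfsg.sigmaCore M).subtype_injective] at h
      exact P.not_dvd_index h
    · exact (sigma_hall hG hM).2.2 p hp hpσ h
  · rw [← Subgroup.relIndex_mul_index hFS]
    exact Nat.Coprime.mul_right ((fittingHallOf_coprime_relIndex M).coprime_dvd_right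
      (Dvd.intro _ (Subgroup.relIndex_mul_relIndex _ _ M hFS hSM)))
      (hc.coprime_dvd_left (Subgroup.card_dvd_of_le hFS))

include hG hI in
/-- BG 16: fusion in a nilpotent Hall subgroup is controlled by its normalizer. -/
theorem nilpotent_hall_fusion (H : Subgroup G) (hHn : Group.IsNilpotent H)
    (hHall : (Nat.card H).Coprime H.index) :
    ∀ x ∈ H, ∀ g : G, g * x * g⁻¹ ∈ H →
      ∃ n ∈ Subgroup.normalizer (H : Set G), n * x * n⁻¹ = g * x * g⁻¹ := by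
  intro x hx g hg
  by_cases hH1 : H = ⊥
  · subst hH1
    rw [Subgroup.mem_bot.mp hx]
    exact ⟨1, one_mem _, by simp⟩
  obtain ⟨p, hp, hpd⟩ := Nat.exists_prime_and_dvd (n := Nat.card H)
    fun h => hH1 (Subgroup.card_eq_one.mp h)
  have := Fact.mk hp
  set P := Cfsg.piCoreOf {p} H with hPdef
  -- Sylow subgroups of `H`
  have hsyl : ∀ q : ℕ, q.Prime → q ∣ Nat.card H →
      IsPGroup q (Cfsg.piCoreOf {q} H) ∧ ¬ q ∣ (Cfsg.piCoreOf {q} H).index ∧
        Cfsg.piCoreOf {q} H ≠ ⊥ ∧ H ≤ Subgroup.normalizer (Cfsg.piCoreOf {q} H : Set G) := by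
    intro q hq hqd
    have := Fact.mk hq
    obtain ⟨h1, h2, -⟩ := piCoreOf_hall hHn {q}
    have hidx : ¬ q ∣ (Cfsg.piCoreOf {q} H).index := fun h => by
      rw [← Subgroup.relIndex_mul_index (piCoreOf_le _ _)] at h
      rcases hq.dvd_mul.mp h with h | h
      · exact h2 q hq rfl h
      · exact hq.ne_one (Nat.eq_one_of_dvd_coprimes hHall hqd h)
    refine ⟨IsPGroup.of_card (Nat.eq_prime_pow_of_unique_prime_dvd Nat.card_pos.ne'
      fun {d} hd hdd => Set.mem_singleton_iff.mp (h1 d hd hdd)), hidx, fun h => ?_, piCoreOf_normal _ _⟩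
    rw [h, Subgroup.index_bot] at hidx
    exact hidx (hqd.trans (Subgroup.card_subgroup_dvd_card H))
  obtain ⟨hPp, hPi, hP1, hHP⟩ := hsyl p hp hpd
  obtain ⟨M, hM, hle⟩ := exists_isCoatom_ge (minSimple_normalizer_ne_top hG hP1
    (minSimple_pgroup_ne_top hG hPp))
  have hpσ : p ∈ Cfsg.sigma M := mem_sigma_of_sylow_normalizer_le
    (hpd.trans (Subgroup.card_subgroup_dvd_card H)) (hPp.toSylow hPi) hle
  have hHM : H ≤ M := hHP.trans hle
  have hPM : P ≤ M := (piCoreOf_le _ _).trans hHM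
  have hPS : P ≤ Cfsg.sigmaCore M := le_sigmaCore hG hM hPM fun q hq hd => by
    obtain ⟨n, hn⟩ := hPp.exists_card_eq
    rwa [(Nat.prime_dvd_prime_iff_eq hq hp).mp (hq.dvd_of_dvd_pow (hn ▸ hd))]
  obtain ⟨⟨X, hXc, hXτ, hCP⟩, -⟩ := hI.hallFusion M hM P hPS hP1 (coprime_of_forall fun q hq h1 h2 => by
    obtain ⟨n, hn⟩ := hPp.exists_card_eq
    obtain rfl := (Nat.prime_dvd_prime_iff_eq hq hp).mp (hq.dvd_of_dvd_pow (hn ▸ h1))
    exact hPi (h2.trans (Subgroup.relIndex_dvd_index_of_le hPS)))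
  have hall : ∀ q : ℕ, q.Prime → q ∣ Nat.card H → q ∈ Cfsg.sigma M := by
    intro q hq hqd
    by_contra hqσ
    have := Fact.mk hq
    obtain ⟨hQp, hQi, hQ1, hHQ⟩ := hsyl q hq hqd
    set Q := Cfsg.piCoreOf {q} H with hQdef
    have hQH : Q ≤ H := piCoreOf_le _ _
    have hQC : Q ≤ M ⊓ Subgroup.centralizer (P : Set G) := by
      refine le_inf (hQH.trans hHM) ?_
      refine commute_of_normalizes (hQH.trans hHP) ((piCoreOf_le _ _).trans hHQ) fun y hyQ hyP => ?_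
      exact isPGroup_inter_eq_one (fun h : q = p => hqσ (h ▸ hpσ)) hQp hPp hyQ hyP
    rw [hCP] at hQC
    have hXM : X ≤ M ⊓ Subgroup.centralizer (P : Set G) := hCP ▸ le_sup_right
    have hXA : X ≤ Subgroup.normalizer
        ((Cfsg.sigmaCore M ⊓ Subgroup.centralizer (P : Set G) : Subgroup G) : Set G) :=
      (le_inf ((hXM.trans inf_le_left).trans (le_normalizer_sigmaCore M))
        ((hXM.trans inf_le_right).trans Subgroup.le_normalizer)).trans
        Subgroup.inf_normalizer_le_normalizer_inf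
    have hQS : Q ⊓ Cfsg.sigmaCore M = ⊥ := by
      rw [inf_comm]
      exact inf_eq_bot_of_piNat (π := Cfsg.sigma M) (sigma_piNat M) fun r hr hrd => by
        obtain ⟨n, hn⟩ := hQp.exists_card_eq
        rw [(Nat.prime_dvd_prime_iff_eq hr hq).mp (hr.dvd_of_dvd_pow (hn ▸ hrd))]
        exact hqσ
    obtain ⟨hQc, hQd⟩ := cyclic_of_le_sup (piCoreOf_le _ _) (le_normalizer_sigmaCore M) hXc
      (hXM.trans inf_le_left) inf_le_left hXA hQC hQS
    have hqX : q ∣ Nat.card X := by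
      refine Dvd.dvd.trans ?_ hQd
      obtain ⟨n, hn⟩ := hQp.exists_card_eq
      rw [hn]
      exact dvd_pow_self q fun h0 => hQ1 (Subgroup.card_eq_one.mp (by rw [hn, h0, pow_zero]))
    refine (hXτ q hq hqX).2.2.2 (Sigma10.pRankLE_of_sylowOf
      (sylowOf_of_not_dvd (hQH.trans hHM) hQp fun h => hQi ?_) (pRankLE_one_of_isCyclic hq hQc))
    exact h.trans (Subgroup.relIndex_dvd_index_of_le (hQH.trans hHM))
  have hHS : H ≤ Cfsg.sigmaCore M := le_sigmaCore hG hM hHM hall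
  obtain ⟨n, hn, he⟩ := (hI.hallFusion M hM H hHS hH1
    (hHall.coprime_dvd_right (Subgroup.relIndex_dvd_index_of_le hHS))).2 x hx g hg
  exact ⟨n, (Subgroup.mem_inf.mp hn).2, he⟩

include hG hI hM in
theorem type_II_to_V {K U : Subgroup G} (hKU : Cfsg.IsSigmaDecomposition M K U) (hK1 : K ≠ ⊥) :
    Cfsg.IsOfTypeII M ∨ Cfsg.IsOfTypeIII M ∨ Cfsg.IsOfTypeIV M ∨ Cfsg.IsOfTypeV M := by
  by_cases hU : U = ⊥
  · by_cases heq : Cfsg.fittingHallOf M = Cfsg.sigmaCore M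
    · exact Or.inr (Or.inr (Or.inr (typeV_of hG hI hM hKU hK1 hU heq)))
    · rcases typeIII_IV_of hG hI hM hKU hK1 heq with h | h
      · exact Or.inr (Or.inl h)
      · exact Or.inr (Or.inr (Or.inl h))
  · exact Or.inl (typeII_of hG hI hM hKU hK1 hU)

include hG hI in
/-- BG Theorem I, for any reading of Type I. -/
theorem maximal_structure_of (T1 : Subgroup G → Prop)
    (hT1 : ∀ M : Subgroup G, IsCoatom M → Cfsg.kappa M = ∅ → T1 M) :
    (∀ M : Subgroup G, IsCoatom M → T1 M) ∨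
      ∃ W₁ W₂ S T : Subgroup G, Cfsg.IsSelfNormalizingCyclic W₁ W₂ ∧ IsCoatom S ∧ IsCoatom T ∧
        Cfsg.IsComplIn ⁅S, S⁆ W₁ S ∧ Cfsg.IsComplIn ⁅T, T⁆ W₂ T ∧ S ⊓ T = W₁ ⊔ W₂ ∧
        (Cfsg.IsOfTypeII S ∨ Cfsg.IsOfTypeII T) ∧
        (Cfsg.IsOfTypeII S ∨ Cfsg.IsOfTypeIII S ∨ Cfsg.IsOfTypeIV S ∨ Cfsg.IsOfTypeV S) ∧
        (Cfsg.IsOfTypeII T ∨ Cfsg.IsOfTypeIII T ∨ Cfsg.IsOfTypeIV T ∨ Cfsg.IsOfTypeV T) ∧
        ∀ M : Subgroup G, IsCoatom M → T1 M ∨ ∃ g : G, M = S.map (MulAut.conj g).toMonoidHom ∨ M = T.map (MulAut.conj g).toMonoidHom := by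
  have typeI_of_empty : ∀ M : Subgroup G, IsCoatom M → Cfsg.kappa M = ∅ → T1 M := by
    exact hT1
  by_cases hall : ∀ M : Subgroup G, IsCoatom M → Cfsg.kappa M = ∅
  · exact Or.inl fun M hM => typeI_of_empty M hM (hall M hM)
  simp only [not_forall] at hall
  obtain ⟨S, hS, hκ⟩ := hall
  obtain ⟨K, U, hKU⟩ := exists_decomp hG hI hS
  have hK1 : K ≠ ⊥ := fun h => hκ ((kappa_eq_empty_iff hKU.hall).mpr h)
  obtain ⟨T, ⟨hT, hTK, hTH⟩, -⟩ := hI.partner S hS K U hKU hK1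
  obtain ⟨V, hTd⟩ := exists_decomp_of_hall hG hI hT hTH
  have hK2 : Cfsg.sigmaCore S ⊓ Subgroup.centralizer (K : Set G) ≠ ⊥ :=
    (kstar_props hG hI hS hKU hK1).2.1
  obtain ⟨htypes, hconj⟩ := hI.partnerTypes S hS K U hKU hK1 T hT hTK hTH
  refine Or.inr ⟨K, _, S, T, selfNormalizing hG hI hS hKU hK1, hS, hT,
    derived_compl hG hI hS hKU hK1, derived_compl hG hI hT hTd hK2,
    (hI.partnerInter S hS K U hKU hK1 T hT hTK hTH).1, ?_, type_II_to_V hG hI hS hKU hK1,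
    type_II_to_V hG hI hT hTd hK2, fun H hH => ?_⟩
  · rcases htypes with h | h
    · exact Or.inl (typeII_of hG hI hS hKU hK1 h)
    · exact Or.inr (typeII_of hG hI hT hTd hK2 (h V hTd))
  · by_cases hκH : Cfsg.kappa H = ∅
    · exact Or.inl (typeI_of_empty H hH hκH)
    · exact Or.inr (hconj H hH (Set.nonempty_iff_ne_empty.mpr hκH))

include hG hI in
/-- BG Theorem I. -/
theorem maximal_structure (hFr : PropKappaFrobenius G) :
    (∀ M : Subgroup G, IsCoatom M → Cfsg.IsOfTypeI M) ∨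
      ∃ W₁ W₂ S T : Subgroup G, Cfsg.IsSelfNormalizingCyclic W₁ W₂ ∧ IsCoatom S ∧ IsCoatom T ∧
        Cfsg.IsComplIn ⁅S, S⁆ W₁ S ∧ Cfsg.IsComplIn ⁅T, T⁆ W₂ T ∧ S ⊓ T = W₁ ⊔ W₂ ∧
        (Cfsg.IsOfTypeII S ∨ Cfsg.IsOfTypeII T) ∧
        (Cfsg.IsOfTypeII S ∨ Cfsg.IsOfTypeIII S ∨ Cfsg.IsOfTypeIV S ∨ Cfsg.IsOfTypeV S) ∧
        (Cfsg.IsOfTypeII T ∨ Cfsg.IsOfTypeIII T ∨ Cfsg.IsOfTypeIV T ∨ Cfsg.IsOfTypeV T) ∧
        ∀ M : Subgroup G, IsCoatom M → Cfsg.IsOfTypeI M ∨ ∃ g : G, M = S.map (MulAut.conj g).toMonoidHom ∨ M = T.map (MulAut.conj g).toMonoidHom :=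
  maximal_structure_of hG hI Cfsg.IsOfTypeI fun M hM h => by
    obtain ⟨K, U, hKU⟩ := exists_decomp hG hI hM
    exact typeI_of hG hI hM hKU ((kappa_eq_empty_iff hKU.hall).mp h) hFr

include hG hI hM in
/-- A complement of `M_F` as in the definition of types I and II is part of a factorisation. -/
theorem decomp_of_typeI_II {U : Subgroup G}
    (hU : (Cfsg.IsOfTypeI M ∧ Cfsg.IsComplIn (Cfsg.fittingHallOf M) U M) ∨
      (Cfsg.IsOfTypeII M ∧ Cfsg.IsComplIn (Cfsg.fittingHallOf M) U ⁅M, M⁆)) :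
    ∃ K : Subgroup G, Cfsg.IsSigmaDecomposition M K U ∧
      Cfsg.fittingHallOf M = Cfsg.sigmaCore M := by
  obtain ⟨K, U', hKU⟩ := exists_decomp hG hI hM
  rcases hU with ⟨hT, hc⟩ | ⟨hT, hc⟩
  · have hK := K_eq_of_typeI hG hI hM hKU hT
    have hH := fittingHallOf_eq_of_bot hG hI hM hKU hK
    rw [hH] at hc
    exact ⟨K, ⟨hKU.cyclic, hKU.hall, by rw [hK, bot_sup_eq]; exact complIn_symm hc,
      by rw [hK]; exact bot_le⟩, hH⟩
  · obtain ⟨hK1, hU'⟩ := (typeII_iff hG hI hM hKU).mp hT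
    have hH := fittingHallOf_eq hG hI hM hKU hU'
    have hne : ⁅M, M⁆ ≠ ⊤ := fun e => hM.1 (top_le_iff.mp (e ▸ Subgroup.commutator_le_self M))
    have := minSimple_solvable hG hne
    have hc0 := U_compl_derived hG hI hM hKU hK1 hU'
    obtain ⟨g, hg, rfl⟩ := exists_conj_complIn hc0 hc (by
      rw [← IsComplIn.relIndex_left hc0]
      exact (fittingHallOf_coprime_relIndex M).coprime_dvd_right
        (Dvd.intro _ (Subgroup.relIndex_mul_relIndex _ _ M hc0.1 (Subgroup.commutator_le_self M))))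
    exact ⟨_, decomp_conj hKU (Subgroup.commutator_le_self M hg), hH⟩

include hG hI hM in
/-- BG Theorem II for types I and II. -/
theorem typeI_II_properties (U : Subgroup G)
    (hU : (Cfsg.IsOfTypeI M ∧ Cfsg.IsComplIn (Cfsg.fittingHallOf M) U M) ∨
      (Cfsg.IsOfTypeII M ∧ Cfsg.IsComplIn (Cfsg.fittingHallOf M) U ⁅M, M⁆)) :
    (∀ (p : ℕ), p.Prime → ∀ P : Sylow p U, IsMulCommutative (P : Subgroup U) ∧ Cfsg.PRankLE p 2 (P : Subgroup U)) ∧
      (∀ X : Set G, X ⊆ (U : Set G) \ {1} → X.Nonempty → Cfsg.fittingHallOf M ⊓ Subgroup.centralizer X ≠ ⊥ →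
        Subgroup.centralizer X ≤ M ∧ ∀ L : Subgroup G, IsCoatom L → Subgroup.centralizer X ≤ L → L = M) ∧
      Cfsg.IsTISubset (Cfsg.typeA M \ Cfsg.typeA1 M) := by
  obtain ⟨K, hKU, hH⟩ := decomp_of_typeI_II hG hI hM hU
  refine ⟨hI.sylowU M hM K U hKU, fun X hX hne hc => ?_, ?_⟩
  · rw [← Subgroup.centralizer_closure] at hc ⊢
    obtain ⟨x, hx⟩ := hne
    refine hI.centralizerX M hM K U hKU _ ((Subgroup.closure_le _).mpr fun y hy => (hX hy).1) ?_ (hH ▸ hc)
    exact fun h => (hX hx).2 (Subgroup.mem_bot.mp (h.le (Subgroup.subset_closure hx)))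
  · have he : Cfsg.typeA M \ Cfsg.typeA1 M = Cfsg.sigmaA M U \ (Cfsg.sigmaCore M : Set G) := by
      rw [typeA_eq hG hI hM hKU fun hK => hU.elim (fun h => h.1) fun h =>
        absurd hK ((typeII_iff hG hI hM hKU).mp h.1).1, typeA1_eq hG hI hM]
      ext a
      simp only [Set.mem_sdiff, Set.mem_singleton_iff, SetLike.mem_coe, not_and, not_not]
      refine ⟨fun ⟨⟨h1, h2⟩, h3⟩ => ⟨h1, fun h => h2 (h3 h)⟩, fun ⟨h1, h2⟩ => ?_⟩
      exact ⟨⟨h1, fun h => h2 (h ▸ (Cfsg.sigmaCore M).one_mem)⟩, fun h => absurd h h2⟩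
    rw [he]
    exact hI.tIA M hM K U hKU

end CfsgLib.OddOrder42
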