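import Mathlib
import Cfsg.Agent.Lib.OddOrder42.Structure16
import Cfsg.Agent.Lib.OddOrder.Sigma11Local
import Cfsg.Agent.Lib.OddOrder38.Main1431

/-!
# BG §16: supports, conjugation of the standard data
-/

set_option autoImplicit false
set_option linter.unusedSectionVars false

namespace CfsgLib.OddOrder42

open Subgroup CfsgLib.OddOrder CfsgLib.OddOrder.Transitivity CfsgLib.OddOrder38

universe u

variable {G : Type u} [Group G] [Finite G]

theorem kappa_cj_le (g : G) (M : Subgroup G) : Cfsg.kappa M ⊆ Cfsg.kappa (cj g M) := by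
  rintro p ⟨hp, hd, hσ, hS⟩
  have := Fact.mk hp
  refine ⟨hp, by rwa [card_cj], by rwa [sigma_cj], fun P => ?_⟩
  set R := (P : Subgroup ↥(cj g M)).map (cj g M).subtype with hR
  have h1 : SylowOf p (cj g⁻¹ R) M := by
    have h := sylowOf_cj (sylowOf_map P) g⁻¹
    rwa [cj_cancel] at h
  obtain ⟨T, hT⟩ := h1.toSylow
  obtain ⟨hc, x, hx, hx1, y, hy, hy1, hxy⟩ := hS T
  have e : ↥(P : Subgroup ↥(cj g M)) ≃* ↥(T : Subgroup M) :=
    (((P : Subgroup ↥(cj g M)).equivMapOfInjective _ (cj g M).subtype_injective).trans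
      (cjEquiv g⁻¹ R)).trans
      ((MulEquiv.subgroupCongr hT.symm).trans
        ((T : Subgroup M).equivMapOfInjective _ M.subtype_injective).symm)
  refine ⟨isCyclic_of_surjective e.symm e.symm.surjective, ?_⟩
  have hxR : g * (x : G) * g⁻¹ ∈ R := by
    have h2 : (x : G) ∈ cj g⁻¹ R := hT.le ⟨x, hx, rfl⟩
    simpa using mem_cj.mp h2
  obtain ⟨x', hx', hxe⟩ := hxR
  refine ⟨x', hx', fun h => hx1 (Subtype.ext ?_), g * y * g⁻¹, ?_, fun h => hy1 (conj_eq_one_iff.mp h), ?_⟩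
  · rw [h, map_one] at hxe
    exact (conj_eq_one_iff.mp hxe.symm)
  · rw [sigmaCore_cj]
    exact mem_cj_self.mpr hy
  · rw [show (x' : G) = g * (x : G) * g⁻¹ from hxe]
    calc g * (x : G) * g⁻¹ * (g * y * g⁻¹) = g * ((x : G) * y) * g⁻¹ := by group
      _ = g * (y * (x : G)) * g⁻¹ := by rw [hxy]
      _ = g * y * g⁻¹ * (g * (x : G) * g⁻¹) := by group

theorem kappa_cj (g : G) (M : Subgroup G) : Cfsg.kappa (cj g M) = Cfsg.kappa M := by
  refine subset_antisymm ?_ (kappa_cj_le g M)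
  have h := kappa_cj_le g⁻¹ (cj g M)
  rwa [cj_cancel] at h

theorem kstar_cj (g : G) (M K : Subgroup G) :
    Cfsg.sigmaCore (cj g M) ⊓ Subgroup.centralizer (cj g K : Set G) =
      cj g (Cfsg.sigmaCore M ⊓ Subgroup.centralizer (K : Set G)) := by
  rw [sigmaCore_cj, ← OddOrder41.cj_centralizer]
  exact (Subgroup.map_inf _ _ _ (MulAut.conj g).injective).symm

theorem mem_zSet_cj {g z : G} {M K : Subgroup G} :
    g * z * g⁻¹ ∈ zSet (cj g M) (cj g K) ↔ z ∈ zSet M K := by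
  rw [zSet, zSet, kstar_cj, ← Subgroup.map_sup]
  simp only [Set.mem_sdiff, Set.mem_union, SetLike.mem_coe]
  rw [show cj g K = K.map (MulAut.conj g).toMonoidHom from rfl]
  exact and_congr mem_cj_self (not_congr (or_congr mem_cj_self mem_cj_self))

variable (hG : Cfsg.IsMinSimpleOddOrder G) (hI : Inputs G) {M : Subgroup G} (hM : IsCoatom M)

include hG hI hM in
/-- The data of a support. -/
theorem support_spec {x : G} (hx : x ∈ Cfsg.sigmaCore M) (hx1 : x ≠ 1)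
    (hxM : ¬ Subgroup.centralizer ({x} : Set G) ≤ M) :
    ∃ L : Subgroup G, IsCoatom L ∧ Subgroup.centralizer ({x} : Set G) ≤ L ∧
      (∀ L' : Subgroup G, IsCoatom L' → Subgroup.centralizer ({x} : Set G) ≤ L' → L' = L) ∧
      Cfsg.supportR M x = Cfsg.sigmaCore L ⊓ Subgroup.centralizer ({x} : Set G) ∧
      Cfsg.IsComplIn (M ⊓ L) (Cfsg.sigmaCore L) L ∧
      Cfsg.IsComplIn (M ⊓ Subgroup.centralizer ({x} : Set G))
        (Cfsg.sigmaCore L ⊓ Subgroup.centralizer ({x} : Set G)) (Subgroup.centralizer ({x} : Set G)) := by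
  obtain ⟨L, ⟨hL, hCL⟩, huniq, hLF, -, hc, hcL, -⟩ := hI.support M hM x hx hx1 hxM
  refine ⟨L, hL, hCL, huniq, ?_, hcL, hc⟩
  have he : ∃! N : Subgroup G, IsCoatom N ∧ Subgroup.centralizer ({x} : Set G) ≤ N :=
    ⟨L, ⟨hL, hCL⟩, fun N hN => huniq N hN.1 hN.2⟩
  rw [Cfsg.supportR, dif_pos ⟨hxM, he⟩]
  have h := Classical.choose_spec he.exists
  rw [huniq _ h.1 h.2, ← hLF]

omit [Finite G] in
theorem supportR_eq_bot {x : G} (h : Subgroup.centralizer ({x} : Set G) ≤ M) :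
    Cfsg.supportR M x = ⊥ := by
  rw [Cfsg.supportR, dif_neg fun h' => h'.1 h]

include hG hI hM in
theorem supportR_cj {x r : G} (hx : x ∈ Cfsg.sigmaCore M) (hx1 : x ≠ 1) (hr : r ∈ Cfsg.supportR M x)
    (h : G) : h * r * h⁻¹ ∈ Cfsg.supportR (cj h M) (h * x * h⁻¹) := by
  by_cases hxM : Subgroup.centralizer ({x} : Set G) ≤ M
  · rw [supportR_eq_bot hxM, Subgroup.mem_bot] at hr
    rw [hr, mul_one, mul_inv_cancel]
    exact one_mem _
  obtain ⟨L, hL, hCL, -, hR, -, -⟩ := support_spec hG hI hM hx hx1 hxM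
  have hC : Subgroup.centralizer ({h * x * h⁻¹} : Set G) = cj h (Subgroup.centralizer ({x} : Set G)) :=
    (Sigma11.cj_centralizer_singleton h x).symm
  have hnot : ¬ Subgroup.centralizer ({h * x * h⁻¹} : Set G) ≤ cj h M := fun hle => hxM (by
    have h1 := cj_mono (g := h⁻¹) (hC ▸ hle)
    rwa [cj_cancel, cj_cancel] at h1)
  obtain ⟨L', hL', -, huniq, hR', -, -⟩ := support_spec hG hI (isCoatom_map_conj hM h)
    (by rw [sigmaCore_cj]; exact mem_cj_self.mpr hx) (fun h1 => hx1 (conj_eq_one_iff.mp h1)) hnot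
  rw [hR', hC, ← huniq (cj h L) (isCoatom_map_conj hL h) (hC ▸ cj_mono hCL), sigmaCore_cj]
  rw [hR] at hr
  exact ⟨mem_cj_self.mpr (Subgroup.mem_inf.mp hr).1, mem_cj_self.mpr (Subgroup.mem_inf.mp hr).2⟩

include hG hI hM in
/-- An element `r` of `R(x)` commutes with `x` and avoids the primes of `σ(M)`. -/
theorem supportR_parts {x r : G} (hx : x ∈ Cfsg.sigmaCore M) (hx1 : x ≠ 1)
    (hr : r ∈ Cfsg.supportR M x) :
    Commute x r ∧ ∀ p : ℕ, p.Prime → p ∣ orderOf r → p ∉ Cfsg.sigma M := by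
  by_cases hxM : Subgroup.centralizer ({x} : Set G) ≤ M
  · rw [supportR_eq_bot hxM, Subgroup.mem_bot] at hr
    subst hr
    exact ⟨Commute.one_right x, fun p hp hd => absurd (by rwa [orderOf_one, Nat.dvd_one] at hd) hp.ne_one⟩
  obtain ⟨L, hL, hCL, -, hR, hcL, -⟩ := support_spec hG hI hM hx hx1 hxM
  rw [hR] at hr
  refine ⟨(Subgroup.mem_centralizer_singleton_iff.mp (Subgroup.mem_inf.mp hr).2).symm,
    fun p hp hd hpM => ?_⟩
  have hpL := mem_sigma_of_mem_sigmaCore (Subgroup.mem_inf.mp hr).1 hp hd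
  have heq := sigma_eq_of_sigma hI.disjoint hM hL hpM hpL
  have hxML : x ∈ M ⊓ L := ⟨piCoreOf_le _ _ hx, hCL (self_mem_centralizer x)⟩
  have hxL : x ∈ Cfsg.sigmaCore L := Subgroup.zpowers_le.mp (le_sigmaCore hG hL
    (Subgroup.zpowers_le.mpr (Subgroup.mem_inf.mp hxML).2) fun q hq hd => heq ▸
      mem_sigma_of_mem_sigmaCore hx hq (by rwa [Nat.card_zpowers] at hd))
  have h1 : x ∈ (M ⊓ L) ⊓ Cfsg.sigmaCore L := ⟨hxML, hxL⟩
  rw [hcL.2.2.1, Subgroup.mem_bot] at h1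
  exact hx1 h1

variable {K U : Subgroup G} (hKU : Cfsg.IsSigmaDecomposition M K U)

include hG hI hM hKU in
/-- An element of `Ẑ` as a product. -/
theorem zSet_parts {z : G} (hz : z ∈ zSet M K) :
    ∃ k c : G, k ∈ K ∧ c ∈ Cfsg.sigmaCore M ⊓ Subgroup.centralizer (K : Set G) ∧ k ≠ 1 ∧ c ≠ 1 ∧
      Commute k c ∧ z = k * c := by
  set C := Cfsg.sigmaCore M ⊓ Subgroup.centralizer (K : Set G) with hC
  have hKn : K ≤ Subgroup.normalizer (C : Set G) :=
    le_trans (fun k hk => Subgroup.mem_centralizer_iff.mpr fun c hc =>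
      (Subgroup.mem_centralizer_iff.mp (Subgroup.mem_inf.mp hc).2 k hk).symm)
      (Subgroup.centralizer_le_normalizer (C : Set G))
  obtain ⟨k, hk, c, hc, rfl⟩ := CfsgLib.Coprime.exists_mul_of_mem_sup hKn hz.1
  refine ⟨k, c, hk, hc, fun h => hz.2 (Or.inr ?_), fun h => hz.2 (Or.inl ?_),
    commute_kstar hG hI hM hKU hk hc, rfl⟩
  · rw [h, one_mul]; exact hc
  · rw [h, mul_one]; exact hk

theorem mul_mem_zSet {k c : G} (hKU : Cfsg.IsSigmaDecomposition M K U) (hk : k ∈ K)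
    (hc : c ∈ Cfsg.sigmaCore M ⊓ Subgroup.centralizer (K : Set G)) (hk1 : k ≠ 1) (hc1 : c ≠ 1) :
    k * c ∈ zSet M K := by
  have hinf : Cfsg.sigmaCore M ⊓ K = ⊥ :=
    inf_eq_bot_of_piNat (π := Cfsg.sigma M) (sigma_piNat M) fun p hp hd => (hKU.hall.2.1 p hp hd).2.2.1
  refine ⟨Subgroup.mul_mem_sup hk hc, ?_⟩
  rintro (h | h)
  · have h1 : c ∈ Cfsg.sigmaCore M ⊓ K :=
      ⟨(Subgroup.mem_inf.mp hc).1, by simpa using K.mul_mem (K.inv_mem hk) h⟩
    rw [hinf, Subgroup.mem_bot] at h1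
    exact hc1 h1
  · have h1 : k ∈ Cfsg.sigmaCore M ⊓ K :=
      ⟨by simpa using Subgroup.mul_mem _ (Subgroup.mem_inf.mp h).1 (Subgroup.inv_mem _ (Subgroup.mem_inf.mp hc).1), hk⟩
    rw [hinf, Subgroup.mem_bot] at h1
    exact hk1 h1

include hG hI hM hKU in
/-- Any factorisation of `M` has, up to conjugation in `M`, the same `Ẑ`. -/
theorem exists_zSet_conj {K' : Subgroup G} (hK' : Cfsg.IsPiHallOf (Cfsg.kappa M) K' M) :
    ∃ m ∈ M, K' = cj m K := by
  have := minSimple_solvable hG hM.1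
  obtain ⟨m, hm, hle⟩ := OddOrder41.exists_conj_into hK'.1 hK'.2.2 hKU.hall.1 hKU.hall.2.1
  obtain ⟨m', hm', hle'⟩ := OddOrder41.exists_conj_into hKU.hall.1 hKU.hall.2.2 hK'.1 hK'.2.1
  refine ⟨m, hm, (Subgroup.eq_of_le_of_card_ge hle ?_).symm⟩
  rw [card_cj]
  have h := Subgroup.card_dvd_of_le hle'
  rw [card_cj] at h
  exact Nat.le_of_dvd Nat.card_pos h

end CfsgLib.OddOrder42
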