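import Mathlib
import Cfsg.Agent.Lib.OddOrder42.Support16

/-!
# BG §16: the partition of the nonidentity elements
-/

set_option autoImplicit false
set_option linter.unusedSectionVars false

namespace CfsgLib.OddOrder42

open Subgroup CfsgLib.OddOrder CfsgLib.OddOrder.Transitivity CfsgLib.OddOrder38

universe u

variable {G : Type u} [Group G] [Finite G] (hG : Cfsg.IsMinSimpleOddOrder G) (hI : Inputs G)

/-- `g` lies in some `M̃` or in a conjugate of some `Ẑ`. -/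
def Covered (g : G) : Prop :=
  (∃ N : Subgroup G, IsCoatom N ∧ g ∈ Cfsg.tildeOf N ((Cfsg.sigmaCore N : Set G) \ {1})) ∨
    ∃ M K U : Subgroup G, IsCoatom M ∧ Cfsg.IsSigmaDecomposition M K U ∧ K ≠ ⊥ ∧
      ∃ y : G, ∃ z ∈ zSet M K, g = y * z * y⁻¹

omit [Finite G] in
theorem covered_of_conj {g h : G} (hc : Covered (h * g * h⁻¹)) : Covered g := by
  rcases hc with ⟨N, hN, a, ha, r, hr, y, hy⟩ | ⟨M, K, U, hM, hd, hK, y, z, hz, hy⟩
  · refine Or.inl ⟨N, hN, a, ha, r, hr, h⁻¹ * y, ?_⟩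
    calc g = h⁻¹ * (h * g * h⁻¹) * h := by group
      _ = h⁻¹ * (y * (a * r) * y⁻¹) * h := by rw [hy]
      _ = h⁻¹ * y * (a * r) * (h⁻¹ * y)⁻¹ := by group
  · refine Or.inr ⟨M, K, U, hM, hd, hK, h⁻¹ * y, z, hz, ?_⟩
    calc g = h⁻¹ * (h * g * h⁻¹) * h := by group
      _ = h⁻¹ * (y * z * y⁻¹) * h := by rw [hy]
      _ = h⁻¹ * y * z * (h⁻¹ * y)⁻¹ := by group

omit [Finite G] in
theorem commute_of_mem_zpowers {a b g : G} (ha : a ∈ Subgroup.zpowers g) (hb : b ∈ Subgroup.zpowers g) :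
    Commute a b := by
  obtain ⟨i, rfl⟩ := Subgroup.mem_zpowers_iff.mp ha
  obtain ⟨j, rfl⟩ := Subgroup.mem_zpowers_iff.mp hb
  exact (Commute.refl _).zpow_zpow i j

omit [Finite G] in
theorem mem_tilde {N : Subgroup G} {a r : G} (ha : a ∈ Cfsg.sigmaCore N) (ha1 : a ≠ 1)
    (hr : r ∈ Cfsg.supportR N a) : a * r ∈ Cfsg.tildeOf N ((Cfsg.sigmaCore N : Set G) \ {1}) :=
  ⟨a, ⟨ha, ha1⟩, r, hr, 1, by simp⟩

theorem orderOf_conj (h a : G) : orderOf (h * a * h⁻¹) = orderOf a := by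
  rw [← MulAut.conj_apply, MulEquiv.orderOf_eq]

theorem commute_conj {a b : G} (h : G) (hab : Commute a b) : Commute (h * a * h⁻¹) (h * b * h⁻¹) := by
  have := hab.map (MulAut.conj h).toMonoidHom
  simpa using this

variable {M : Subgroup G}

include hG hI in
/-- The case where the `σ(M)'`-part is a `τ₂(M)`-element. -/
theorem covered_of_tau (hM : IsCoatom M) {x x' : G} (hx : x ∈ Cfsg.sigmaCore M) (hx1 : x ≠ 1)
    (hcomm : Commute x x') (hx'1 : x' ≠ 1) (hσ : ∀ p : ℕ, p.Prime → p ∣ orderOf x' → p ∉ Cfsg.sigma M)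
    {L : Subgroup G} (hL : IsCoatom L) (hσL : ∀ p : ℕ, p.Prime → p ∣ orderOf x' → p ∈ Cfsg.sigma L)
    (hC : Subgroup.centralizer ({x'} : Set G) ≤ M)
    (huniq : ∀ L' : Subgroup G, IsCoatom L' → Subgroup.centralizer ({x'} : Set G) ≤ L' → L' = M) :
    Covered (x * x') := by
  obtain ⟨h, hh⟩ := hI.sigmaConj L hL (Subgroup.zpowers x') (Subgroup.zpowers_ne_bot.mpr hx'1)
    fun p hp hd => hσL p hp (by rwa [Nat.card_zpowers] at hd)
  apply covered_of_conj (h := h)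
  set y := h * x' * h⁻¹ with hy
  set x₁ := h * x * h⁻¹ with hx₁
  have hyL : y ∈ Cfsg.sigmaCore L := hh (mem_cj_self.mpr (Subgroup.mem_zpowers x'))
  have hy1 : y ≠ 1 := fun e => hx'1 (conj_eq_one_iff.mp e)
  have hCy : Subgroup.centralizer ({y} : Set G) = cj h (Subgroup.centralizer ({x'} : Set G)) :=
    (Sigma11.cj_centralizer_singleton h x').symm
  have hM1 := isCoatom_map_conj hM h
  have hCy' : Subgroup.centralizer ({y} : Set G) ≤ cj h M := hCy ▸ cj_mono hC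
  have huniq' : ∀ L' : Subgroup G, IsCoatom L' → Subgroup.centralizer ({y} : Set G) ≤ L' → L' = cj h M :=
    fun L' hL' hle => by
      rw [← huniq _ (isCoatom_map_conj hL' h⁻¹) (by
        have h1 := cj_mono (g := h⁻¹) (hCy ▸ hle)
        rwa [cj_cancel] at h1)]
      exact (cj_cancel' h L').symm
  have hyn : ¬ Subgroup.centralizer ({y} : Set G) ≤ L := fun hle => by
    obtain ⟨q, hq, hd⟩ := Nat.exists_prime_and_dvd (n := orderOf x')
      fun e => hx'1 (orderOf_eq_one_iff.mp e)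
    have h1 := hσL q hq hd
    rw [huniq' L hL hle, sigma_cj] at h1
    exact hσ q hq hd h1
  obtain ⟨L', hL', hCL', -, hR, -, -⟩ := support_spec hG hI hL hyL hy1 hyn
  rw [huniq' L' hL' hCL', sigmaCore_cj] at hR
  have hx₁R : x₁ ∈ Cfsg.supportR L y := by
    rw [hR]
    exact ⟨mem_cj_self.mpr hx,
      Subgroup.mem_centralizer_singleton_iff.mpr (commute_conj h hcomm).eq⟩
  refine Or.inl ⟨L, hL, ?_⟩
  have he : h * (x * x') * h⁻¹ = y * x₁ := by
    rw [hcomm.eq, hy, hx₁]; group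
  rw [he]
  exact mem_tilde hyL hy1 hx₁R

include hG hI in
/-- The case where the `σ(M)'`-part is a `κ(M)`-element. -/
theorem covered_of_kappa (hM : IsCoatom M) {x x' : G} (hx : x ∈ Cfsg.sigmaCore M) (hx1 : x ≠ 1)
    (hcomm : Commute x x') (hx'M : x' ∈ M) (hx'1 : x' ≠ 1)
    (hκ : ∀ p : ℕ, p.Prime → p ∣ orderOf x' → p ∈ Cfsg.kappa M) : Covered (x * x') := by
  obtain ⟨K, U, hKU⟩ := exists_decomp hG hI hM
  have := minSimple_solvable hG hM.1
  obtain ⟨m, hm, hle⟩ := OddOrder41.exists_conj_into hKU.hall.1 hKU.hall.2.2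
    (Subgroup.zpowers_le.mpr hx'M) fun p hp hd => hκ p hp (by rwa [Nat.card_zpowers] at hd)
  have hk : m * x' * m⁻¹ ∈ K := hle (mem_cj_self.mpr (Subgroup.mem_zpowers x'))
  have hk1 : m * x' * m⁻¹ ≠ 1 := fun e => hx'1 (conj_eq_one_iff.mp e)
  have hK1 : K ≠ ⊥ := fun e => hk1 (by rw [e] at hk; exact Subgroup.mem_bot.mp hk)
  have hxS : m * x * m⁻¹ ∈ Cfsg.sigmaCore M :=
    conj_mem_of_le_normalizer (le_normalizer_sigmaCore M) hm hx
  have hxK : m * x * m⁻¹ ∈ Cfsg.sigmaCore M ⊓ Subgroup.centralizer (K : Set G) := by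
    rw [← (hI.kappaHall M hM K hKU.hall hK1).1 _ hk hk1]
    exact ⟨hxS, Subgroup.mem_centralizer_singleton_iff.mpr (commute_conj m hcomm).eq⟩
  refine covered_of_conj (h := m) (Or.inr ⟨M, K, U, hM, hKU, hK1, 1, _,
    mul_mem_zSet hKU hk hxK hk1 (fun e => hx1 (conj_eq_one_iff.mp e)), ?_⟩)
  rw [hcomm.eq]
  group

include hG hI in
/-- Every nonidentity element is covered. -/
theorem covered {g : G} (hg : g ≠ 1) : Covered g := by
  obtain ⟨p, hp, hpd⟩ := Nat.exists_prime_and_dvd (n := orderOf g)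
    fun e => hg (orderOf_eq_one_iff.mp e)
  obtain ⟨M, hM, hpσ⟩ := exists_isCoatom_mem_sigma hG hp (hpd.trans (_root_.orderOf_dvd_natCard g))
  obtain ⟨a, b, rfl, ha, hb, haσ, hbσ⟩ := exists_parts (Cfsg.sigma M) g
  have hab : Commute a b := commute_of_mem_zpowers ha hb
  have ha1 : a ≠ 1 := fun e => hbσ p hp (by rwa [e, one_mul] at hpd) hpσ
  obtain ⟨h, hh⟩ := hI.sigmaConj M hM (Subgroup.zpowers a) (Subgroup.zpowers_ne_bot.mpr ha1)
    fun q hq hd => haσ q hq (by rwa [Nat.card_zpowers] at hd)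
  apply covered_of_conj (h := h)
  rw [show h * (a * b) * h⁻¹ = (h * a * h⁻¹) * (h * b * h⁻¹) by group]
  have hx : h * a * h⁻¹ ∈ Cfsg.sigmaCore M := hh (mem_cj_self.mpr (Subgroup.mem_zpowers a))
  have hx1 : h * a * h⁻¹ ≠ 1 := fun e => ha1 (conj_eq_one_iff.mp e)
  have hxb := commute_conj h hab
  have hσ : ∀ q : ℕ, q.Prime → q ∣ orderOf (h * b * h⁻¹) → q ∉ Cfsg.sigma M :=
    fun q hq hd => hbσ q hq (by rwa [orderOf_conj] at hd)
  generalize h * a * h⁻¹ = x, h * b * h⁻¹ = x' at hx hx1 hxb hσ ⊢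
  clear ha hb haσ hbσ hab ha1 hh hg hpd a b h
  by_cases hx'1 : x' = 1
  · exact Or.inl ⟨M, hM, mem_tilde hx hx1 (hx'1 ▸ one_mem _)⟩
  have hx'C : x' ∈ Subgroup.centralizer ({x} : Set G) :=
    Subgroup.mem_centralizer_singleton_iff.mpr hxb.eq.symm
  by_cases hxM : Subgroup.centralizer ({x} : Set G) ≤ M
  · rcases hI.dichotomy M hM x hx hx1 x' ⟨hxM hx'C, hx'C⟩ hx'1 hσ with
      ⟨hκ, -⟩ | ⟨-, ⟨L, hL, hσL⟩, hC, huniq⟩
    · exact covered_of_kappa hG hI hM hx hx1 hxb (hxM hx'C) hx'1 hκ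
    · exact covered_of_tau hG hI hM hx hx1 hxb hx'1 hσ hL hσL hC huniq
  obtain ⟨L, hL, hCL, -, hR, hcL, hc⟩ := support_spec hG hI hM hx hx1 hxM
  obtain ⟨r, e, rfl, hr, he, hrσ, heσ⟩ := exists_parts (Cfsg.sigma L) x'
  have hrC : r ∈ Subgroup.centralizer ({x} : Set G) := Subgroup.zpowers_le.mpr hx'C hr
  have heC : e ∈ Subgroup.centralizer ({x} : Set G) := Subgroup.zpowers_le.mpr hx'C he
  have hre : Commute r e := commute_of_mem_zpowers hr he
  have hrR : r ∈ Cfsg.sigmaCore L ⊓ Subgroup.centralizer ({x} : Set G) :=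
    ⟨Subgroup.zpowers_le.mp (le_sigmaCore hG hL (Subgroup.zpowers_le.mpr (hCL hrC))
      fun q hq hd => hrσ q hq (by rwa [Nat.card_zpowers] at hd)), hrC⟩
  by_cases he1 : e = 1
  · subst he1
    rw [mul_one]
    exact Or.inl ⟨M, hM, mem_tilde hx hx1 (hR ▸ hrR)⟩
  have := minSimple_solvable hG (H := Subgroup.centralizer ({x} : Set G))
    fun h => hL.1 (top_le_iff.mp (h ▸ hCL))
  obtain ⟨c, hc', hle⟩ := OddOrder41.exists_conj_into (π := {q | q ∉ Cfsg.sigma L})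
    hc.1 (fun q hq hqL hd => by
      rw [IsComplIn.relIndex_left hc] at hd
      exact hqL (sigma_piNat L q hq (hd.trans (Subgroup.card_dvd_of_le inf_le_left))))
    (Subgroup.zpowers_le.mpr heC) fun q hq hd => heσ q hq (by rwa [Nat.card_zpowers] at hd)
  have he' : c * e * c⁻¹ ∈ M ⊓ Subgroup.centralizer ({x} : Set G) :=
    hle (mem_cj_self.mpr (Subgroup.mem_zpowers e))
  have he'1 : c * e * c⁻¹ ≠ 1 := fun h => he1 (conj_eq_one_iff.mp h)
  have he'σ : ∀ q : ℕ, q.Prime → q ∣ orderOf (c * e * c⁻¹) → q ∉ Cfsg.sigma M := fun q hq hd =>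
    hσ q hq ((show orderOf e ∣ orderOf (r * e) from
      Nat.card_zpowers (r * e) ▸ Subgroup.orderOf_dvd_natCard _ he) |> (orderOf_conj c e ▸ hd).trans)
  rcases hI.dichotomy M hM x hx hx1 _ he' he'1 he'σ with ⟨-, h⟩ | ⟨-, ⟨L₁, hL₁, hσL⟩, hC, huniq⟩
  · exact absurd h hxM
  have hr' : c * r * c⁻¹ = 1 := by
    have h1 : c * r * c⁻¹ ∈ M := hC (Subgroup.mem_centralizer_singleton_iff.mpr (commute_conj c hre).eq)
    have h2 : c * r * c⁻¹ ∈ (M ⊓ L) ⊓ Cfsg.sigmaCore L :=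
      ⟨⟨h1, L.mul_mem (L.mul_mem (hCL hc') (hCL hrC)) (L.inv_mem (hCL hc'))⟩,
        conj_mem_of_le_normalizer (le_normalizer_sigmaCore L) (hCL hc') (Subgroup.mem_inf.mp hrR).1⟩
    rwa [hcL.2.2.1, Subgroup.mem_bot] at h2
  have hr1 : r = 1 := conj_eq_one_iff.mp hr'
  have hxc : c * x * c⁻¹ = x := by
    rw [Subgroup.mem_centralizer_singleton_iff.mp hc', mul_inv_cancel_right]
  apply covered_of_conj (h := c)
  rw [hr1, one_mul, show c * (x * e) * c⁻¹ = (c * x * c⁻¹) * (c * e * c⁻¹) by group, hxc]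
  exact covered_of_tau hG hI hM hx hx1
    (Subgroup.mem_centralizer_singleton_iff.mp (Subgroup.mem_inf.mp he').2).symm he'1 he'σ hL₁ hσL hC huniq

include hG hI in
theorem zSet_not_of_sigma (hM : IsCoatom M) {K U : Subgroup G}
    (hKU : Cfsg.IsSigmaDecomposition M K U) (hK1 : K ≠ ⊥) {N : Subgroup G} (hN : IsCoatom N)
    (hσN : Cfsg.sigma N = Cfsg.sigma M) {z : G} (hz : z ∈ zSet M K) {a r : G}
    (ha : a ∈ Cfsg.sigmaCore N) (ha1 : a ≠ 1) (hr : r ∈ Cfsg.supportR N a) : z ≠ a * r := by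
  intro he
  obtain ⟨k, c, hk, hc, hk1, hc1, hkc, rfl⟩ := zSet_parts hG hI hM hKU hz
  obtain ⟨har, hrσ⟩ := supportR_parts hG hI hN ha ha1 hr
  have hkσ : ∀ p : ℕ, p.Prime → p ∣ orderOf k → p ∉ Cfsg.sigma N := fun p hp hd => hσN ▸
    (hKU.hall.2.1 p hp (hd.trans (Subgroup.orderOf_dvd_natCard _ hk))).2.2.1
  have hcσ : ∀ p : ℕ, p.Prime → p ∣ orderOf c → p ∈ Cfsg.sigma N := fun p hp hd => hσN ▸
    mem_sigma_of_mem_sigmaCore (Subgroup.mem_inf.mp hc).1 hp hd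
  have hac : a = c := by
    refine eq_of_parts har hkc.symm (he.symm.trans hkc.eq) (coprime_of_forall fun p hp h1 h2 => ?_)
    have h2' : p ∈ Cfsg.sigma N := by
      rcases hp.dvd_mul.mp h2 with h | h
      · exact mem_sigma_of_mem_sigmaCore ha hp h
      · exact hcσ p hp h
    rcases hp.dvd_mul.mp h1 with h | h
    · exact hrσ p hp h h2'
    · exact hkσ p hp h h2'
  subst hac
  have hrk : r = k := mul_left_cancel (he.symm.trans hkc.eq)
  subst hrk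
  obtain ⟨T, ⟨hT, hTK, hTH⟩, -⟩ := hI.partner M hM K U hKU hK1
  obtain ⟨q, hq, hqd⟩ := Nat.exists_prime_and_dvd (n := orderOf a)
    fun e => ha1 (orderOf_eq_one_iff.mp e)
  obtain ⟨y, hy, hyo⟩ := exists_mem_zpowers_prime hq hqd
  obtain ⟨hCy, huniq⟩ := (hI.partnerUnique M hM K U hKU hK1 T hT hTK hTH).1 (Subgroup.zpowers y)
    (Subgroup.zpowers_le.mpr (Subgroup.zpowers_le.mpr hc hy)) (by rwa [Nat.card_zpowers, hyo])
  have hCa : Subgroup.centralizer ({a} : Set G) ≤ M := by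
    refine (centralizer_le_of_mem_zpowers hy).trans ?_
    rw [← OddOrder41.centralizer_zpowers y]
    exact hCy
  by_cases haN : Subgroup.centralizer ({a} : Set G) ≤ N
  · rw [supportR_eq_bot haN, Subgroup.mem_bot] at hr
    exact hk1 hr
  obtain ⟨L, hL, -, hu, hR, -, -⟩ := support_spec hG hI hN ha ha1 haN
  rw [hR, ← hu M hM hCa] at hr
  obtain ⟨p, hp, hpd⟩ := Nat.exists_prime_and_dvd (n := orderOf r)
    fun e => hk1 (orderOf_eq_one_iff.mp e)
  exact hkσ p hp hpd (hσN ▸ mem_sigma_of_mem_sigmaCore (Subgroup.mem_inf.mp hr).1 hp hpd)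

theorem zSet_partner {K T : Subgroup G}
    (hTK : K = Cfsg.sigmaCore T ⊓
      Subgroup.centralizer ((Cfsg.sigmaCore M ⊓ Subgroup.centralizer (K : Set G)) : Set G)) :
    zSet T (Cfsg.sigmaCore M ⊓ Subgroup.centralizer (K : Set G)) = zSet M K := by
  have h : K = Cfsg.sigmaCore T ⊓ Subgroup.centralizer
      ((Cfsg.sigmaCore M ⊓ Subgroup.centralizer (K : Set G) : Subgroup G) : Set G) := by
    rw [Subgroup.coe_inf]; exact hTK
  rw [zSet, zSet, ← h, sup_comm, Set.union_comm]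

include hG hI in
/-- No conjugate of an element of `Ẑ` lies in a `Ñ`. -/
theorem zSet_not_tilde (hM : IsCoatom M) {K U : Subgroup G}
    (hKU : Cfsg.IsSigmaDecomposition M K U) (hK1 : K ≠ ⊥) {N : Subgroup G} (hN : IsCoatom N)
    {z : G} (hz : z ∈ zSet M K) (y : G) :
    y * z * y⁻¹ ∉ Cfsg.tildeOf N ((Cfsg.sigmaCore N : Set G) \ {1}) := by
  rintro ⟨a, ⟨ha, ha1⟩, r, hr, w, he⟩
  have ha1' : a ≠ 1 := ha1
  set h := y⁻¹ * w with hh
  have hze : z = (h * a * h⁻¹) * (h * r * h⁻¹) := by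
    calc z = y⁻¹ * (y * z * y⁻¹) * y := by group
      _ = y⁻¹ * (w * (a * r) * w⁻¹) * y := by rw [he]
      _ = _ := by rw [hh]; group
  have hN' := isCoatom_map_conj hN h
  have hr' := supportR_cj hG hI hN ha ha1' hr h
  have ha' : h * a * h⁻¹ ∈ Cfsg.sigmaCore (cj h N) := by rw [sigmaCore_cj]; exact mem_cj_self.mpr ha
  have ha'1 : h * a * h⁻¹ ≠ 1 := fun e => ha1' (conj_eq_one_iff.mp e)
  obtain ⟨T, ⟨hT, hTK, hTH⟩, -⟩ := hI.partner M hM K U hKU hK1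
  by_cases h1 : ∃ p, p ∈ Cfsg.sigma (cj h N) ∧ p ∈ Cfsg.sigma M
  · obtain ⟨p, hp1, hp2⟩ := h1
    exact zSet_not_of_sigma hG hI hM hKU hK1 hN' (sigma_eq_of_sigma hI.disjoint hM hN' hp2 hp1) hz
      ha' ha'1 hr' hze
  by_cases h2 : ∃ p, p ∈ Cfsg.sigma (cj h N) ∧ p ∈ Cfsg.sigma T
  · obtain ⟨p, hp1, hp2⟩ := h2
    obtain ⟨V, hTd⟩ := exists_decomp_of_hall hG hI hT hTH
    exact zSet_not_of_sigma hG hI hT hTd (kstar_props hG hI hM hKU hK1).2.1 hN'
      (sigma_eq_of_sigma hI.disjoint hT hN' hp2 hp1) (zSet_partner hTK ▸ hz) ha' ha'1 hr' hze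
  obtain ⟨p, hp, hpd⟩ := Nat.exists_prime_and_dvd (n := orderOf (h * a * h⁻¹))
    fun e => ha'1 (orderOf_eq_one_iff.mp e)
  have hpN := mem_sigma_of_mem_sigmaCore ha' hp hpd
  obtain ⟨har, hrσ⟩ := supportR_parts hG hI hN' ha' ha'1 hr'
  have hcop : (orderOf (h * a * h⁻¹)).Coprime (orderOf (h * r * h⁻¹)) :=
    coprime_of_forall fun q hq d1 d2 => hrσ q hq d2 (mem_sigma_of_mem_sigmaCore ha' hq d1)
  have hpz : p ∣ orderOf z := by
    rw [hze, har.orderOf_mul_eq_mul_orderOf_of_coprime hcop]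
    exact hpd.mul_right _
  obtain ⟨k, c, hk, hc, -, -, hkc, rfl⟩ := zSet_parts hG hI hM hKU hz
  rcases hp.dvd_mul.mp (hpz.trans hkc.orderOf_mul_dvd_mul_orderOf) with h' | h'
  · have hkT : k ∈ Cfsg.sigmaCore T := by
      rw [hTK] at hk
      exact (Subgroup.mem_inf.mp hk).1
    exact h2 ⟨p, hpN, mem_sigma_of_mem_sigmaCore hkT hp h'⟩
  · exact h1 ⟨p, hpN, mem_sigma_of_mem_sigmaCore (Subgroup.mem_inf.mp hc).1 hp h'⟩

include hG hI in
/-- BG Theorem E: the partition. -/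
theorem partition :
    (∀ M N : Subgroup G, IsCoatom M → IsCoatom N → (∀ g : G, N ≠ M.map (MulAut.conj g).toMonoidHom) → Cfsg.tildeOf M ((Cfsg.sigmaCore M : Set G) \ {1}) ∩ Cfsg.tildeOf N ((Cfsg.sigmaCore N : Set G) \ {1}) = ∅) ∧
      ((∀ M : Subgroup G, IsCoatom M → Cfsg.kappa M = ∅) →
        ∀ g : G, g ≠ 1 → ∃ M : Subgroup G, IsCoatom M ∧ g ∈ Cfsg.tildeOf M ((Cfsg.sigmaCore M : Set G) \ {1})) ∧
      ∀ (M K U : Subgroup G), IsCoatom M → Cfsg.IsSigmaDecomposition M K U → K ≠ ⊥ →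
        (∀ g : G, g ≠ 1 → (∃ N : Subgroup G, IsCoatom N ∧ g ∈ Cfsg.tildeOf N ((Cfsg.sigmaCore N : Set G) \ {1})) ∨
            ∃ y : G, ∃ z ∈ ((↑(K ⊔ (Cfsg.sigmaCore M ⊓ Subgroup.centralizer (K : Set G))) : Set G) \ ((K : Set G) ∪ ↑(Cfsg.sigmaCore M ⊓ Subgroup.centralizer (K : Set G)))), g = y * z * y⁻¹) ∧
        ∀ N : Subgroup G, IsCoatom N → ∀ y : G, ∀ z ∈ ((↑(K ⊔ (Cfsg.sigmaCore M ⊓ Subgroup.centralizer (K : Set G))) : Set G) \ ((K : Set G) ∪ ↑(Cfsg.sigmaCore M ⊓ Subgroup.centralizer (K : Set G)))), y * z * y⁻¹ ∉ Cfsg.tildeOf N ((Cfsg.sigmaCore N : Set G) \ {1}) := by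
  refine ⟨fun M N hM hN hne => Set.eq_empty_iff_forall_notMem.mpr fun v hv => ?_, fun hall g hg => ?_,
    fun M K U hM hKU hK1 => ⟨fun g hg => ?_, fun N hN y z hz => zSet_not_tilde hG hI hM hKU hK1 hN hz y⟩⟩
  · obtain ⟨⟨a, ⟨ha, ha1⟩, r, hr, y, hy⟩, b, ⟨hb, hb1⟩, s, hs, w, hw⟩ := hv
    set h := y⁻¹ * w with hh
    have he : a * r = (h * b * h⁻¹) * (h * s * h⁻¹) := by
      calc a * r = y⁻¹ * (y * (a * r) * y⁻¹) * y := by group
        _ = y⁻¹ * (w * (b * s) * w⁻¹) * y := by rw [← hy, hw]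
        _ = _ := by rw [hh]; group
    have hb1' : b ≠ 1 := hb1
    have ha1' : a ≠ 1 := ha1
    have hb' : h * b * h⁻¹ ∈ Cfsg.sigmaCore (cj h N) := by rw [sigmaCore_cj]; exact mem_cj_self.mpr hb
    by_cases hab : a = h * b * h⁻¹
    · obtain ⟨p, hp, hpd⟩ := Nat.exists_prime_and_dvd (n := orderOf a)
        fun e => ha1' (orderOf_eq_one_iff.mp e)
      obtain ⟨g, hg⟩ := exists_cj_eq_of_sigma hI.disjoint hM hN (mem_sigma_of_mem_sigmaCore ha hp hpd)
        (sigma_cj h N ▸ mem_sigma_of_mem_sigmaCore hb' hp (hab ▸ hpd))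
      exact hne g hg
    · exact hI.cosets M (cj h N) hM (isCoatom_map_conj hN h) a _ ha hb' ha1'
        (fun e => hb1' (conj_eq_one_iff.mp e)) hab r hr _ (supportR_cj hG hI hN hb hb1' hs h) he
  · rcases covered hG hI hg with h | ⟨H, K, U, hH, hKU, hK1, -⟩
    · exact h
    · exact absurd ((kappa_eq_empty_iff hKU.hall).mp (hall H hH)) hK1
  · rcases covered hG hI hg with h | ⟨H, K', U', hH, hKU', hK'1, y, z, hz, rfl⟩
    · exact Or.inl h
    refine Or.inr ?_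
    obtain ⟨T, ⟨hT, hTK, hTH⟩, -⟩ := hI.partner M hM K U hKU hK1
    obtain ⟨f, hf⟩ := (hI.partnerTypes M hM K U hKU hK1 T hT hTK hTH).2 H hH
      (kappa_nonempty_of_hall hKU'.hall hK'1)
    have key : ∀ {B L : Subgroup G} (V : Subgroup G), IsCoatom B → Cfsg.IsSigmaDecomposition B L V →
        H = cj f B → ∃ v : G, ∃ z' ∈ zSet B L, y * z * y⁻¹ = v * z' * v⁻¹ := by
      intro B L V hB hBd hHB
      have hK'' : Cfsg.IsPiHallOf (Cfsg.kappa B) (cj f⁻¹ K') B := by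
        have h1 := hKU'.hall
        rw [hHB, kappa_cj] at h1
        refine ⟨cj_le_iff.mpr (by rw [inv_inv]; exact h1.1), fun p hp hd => h1.2.1 p hp
          (by rwa [card_cj] at hd), fun p hp hpκ hd => h1.2.2 p hp hpκ ?_⟩
        have h2 : (cj f⁻¹ K').relIndex (cj f⁻¹ (cj f B)) = K'.relIndex (cj f B) :=
          Subgroup.relIndex_map_map_of_injective _ _ (MulAut.conj f⁻¹).injective
        rw [cj_cancel] at h2
        rwa [← h2]
      obtain ⟨m, hm, hmK⟩ := exists_zSet_conj hG hI hB hBd hK''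
      have hHm : H = cj (f * m) B := by
        rw [← cj_mul, cj_eq_of_mem_normalizer (Subgroup.le_normalizer hm), ← hHB]
      have hKm : K' = cj (f * m) L := by rw [← cj_mul, ← hmK, cj_cancel']
      rw [hHm, hKm] at hz
      refine ⟨y * (f * m), (f * m)⁻¹ * z * (f * m), ?_, by group⟩
      refine (mem_zSet_cj (g := f * m)).mp ?_
      rw [show f * m * ((f * m)⁻¹ * z * (f * m)) * (f * m)⁻¹ = z by group]
      exact hz
    rcases hf with hf | hf
    · obtain ⟨v, z', hz', he⟩ := key U hM hKU hf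
      exact ⟨v, z', hz', he⟩
    · obtain ⟨V, hTd⟩ := exists_decomp_of_hall hG hI hT hTH
      obtain ⟨v, z', hz', he⟩ := key V hT hTd hf
      exact ⟨v, z', show z' ∈ zSet M K from zSet_partner hTK ▸ hz', he⟩

end CfsgLib.OddOrder42
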