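import Mathlib
import Cfsg.Agent.Lib.OddOrder42.Avail16
import Cfsg.Agent.Lib.OddOrder42.Core16
import Cfsg.Agent.S1363
import Cfsg.Agent.S1364
import Cfsg.Agent.S1365
import Cfsg.Agent.S1367
import Cfsg.Agent.S1368
import Cfsg.Agent.S1369
import Cfsg.Agent.S1370
import Cfsg.Agent.S1372
import Cfsg.Agent.S1376
import Cfsg.Agent.S1438
import Cfsg.Agent.Lib.OddOrder38.Main1440

/-!
# All the inputs of BG §16, given the weak form of S1440
-/

set_option autoImplicit false

namespace CfsgLib.OddOrder42

universe u

variable {G : Type u} [Group G] [Finite G] (hG : Cfsg.IsMinSimpleOddOrder G)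

include hG in
theorem inputs16_of (hFI : PropFittingTI G) : Inputs G where
  disjoint := propDisjoint hG
  kappaCyclic := propKappaCyclic hG
  kappaHall := propKappaHall hG
  core := propCore hG
  fitting := propFitting hG
  notNilpotent := propNotNilpotent hG hFI
  sylowU := propSylowU hG
  closureAbelian := propClosureAbelian hG
  exponentU := propExponentU hG
  centralizerX := propCentralizerX hG
  tIA := propTIA hG
  uAbelian := Cfsg.Agent.S1363.result hG
  kStar := Cfsg.Agent.S1364.result hG
  derived := Cfsg.Agent.S1365.result hG
  partner := propPartner hG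
  partnerUnique := Cfsg.Agent.S1367.result hG
  partnerInter := Cfsg.Agent.S1368.result hG
  partnerTypes := Cfsg.Agent.S1369.result hG
  zHat := Cfsg.Agent.S1370.result hG
  primeK := Cfsg.Agent.S1372.result hG
  support := propSupport hG
  supportFrobenius := Cfsg.Agent.S1376.result hG
  sigmaConj := propSigmaConj hG
  dichotomy := propDichotomy hG
  cosets := propCosets hG
  pairCentralizer := propPairCentralizer hG
  supportConj := propSupportConj hG
  hallFusion := Cfsg.Agent.S1438.result hG
  fittingTI := hFI

include hG in
theorem propFittingTI : PropFittingTI G := OddOrder38.fitting_nonTI hG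

include hG in
/-- The inputs of BG §16. -/
theorem inputs16 : Inputs G := inputs16_of hG (propFittingTI hG)

end CfsgLib.OddOrder42
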