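import Mathlib
import Cfsg.Agent.Lib.OddOrder42.Support16
import Cfsg.Agent.Lib.TwoFrobenius.Complement
import Cfsg.Agent.Lib.Frobenius.Theorem

/-!
# BG §16: tame embedding of the sets `A(M)` and `A₀(M)`
-/

set_option autoImplicit false
set_option linter.unusedSectionVars false

namespace CfsgLib.OddOrder42

open Subgroup CfsgLib.OddOrder CfsgLib.OddOrder.Transitivity CfsgLib.OddOrder38

universe u

/-- The Frobenius kernel is `M_F`. -/
theorem frobeniusKernel_eq_fittingHall {X : Type u} [Group X] [Finite X] {E : Subgroup X}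
    (hE : Cfsg.IsFrobeniusComplement E) :
    Cfsg.frobeniusKernel E = ((Cfsg.fittingHall X : Subgroup X) : Set X) := by
  obtain ⟨N, hNk, hNn, hNc⟩ := CfsgLib.Frobenius.exists_normal_kernel hE
  have hnil : Group.IsNilpotent N := CfsgLib.TwoFrobenius.isNilpotent_kernel (hKn := hNn) hE hNc
  have hNF : N ≤ Cfsg.fittingHall X := by
    refine le_fittingHall hNn hnil ?_
    rw [Subgroup.IsComplement'.index_eq_card hNc.symm]
    have h := CfsgLib.Frobenius.coprime_card_index hE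
    rw [Subgroup.IsComplement'.index_eq_card hNc] at h
    exact h.symm
  have hN1 : N ≠ ⊥ := fun h => hE.2.1 (by
    have h1 := hNc.sup_eq_top
    rwa [h, bot_sup_eq] at h1)
  have hFE : ∀ e ∈ Cfsg.fittingHall X, e ∈ E → e = 1 := by
    intro e he heE
    by_contra he1
    have := fittingHall_isNilpotent (G := X)
    have : Nontrivial ↥(Cfsg.fittingHall X) :=
      (Subgroup.nontrivial_iff_ne_bot _).mpr fun h => hN1 (le_bot_iff.mp (h ▸ hNF))
    obtain ⟨z, hz, hz1⟩ := (Subgroup.bot_or_exists_ne_one (Subgroup.center ↥(Cfsg.fittingHall X))).resolve_left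
      (Group.IsNilpotent.center_ne_bot (G := ↥(Cfsg.fittingHall X)))
    have hz1' : (z : X) ≠ 1 := fun h => hz1 (Subtype.ext h)
    have hcz : ∀ f : ↥(Cfsg.fittingHall X), (f : X) * z = z * f := fun f =>
      congrArg Subtype.val (Subgroup.mem_center_iff.mp hz f)
    have hzE : (z : X) ∈ E := CfsgLib.Frobenius.centralizer_le hE heE he1
      (Subgroup.mem_centralizer_singleton_iff.mpr (hcz ⟨e, he⟩).symm)
    refine hN1 (le_bot_iff.mp ?_)
    rw [← hNc.disjoint.eq_bot]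
    exact le_inf le_rfl fun n hn => CfsgLib.Frobenius.centralizer_le hE hzE hz1'
      (Subgroup.mem_centralizer_singleton_iff.mpr (hcz ⟨n, hNF hn⟩))
  refine subset_antisymm (hNk ▸ hNF) fun x hx => ?_
  by_cases hx1 : x = 1
  · exact Or.inl hx1
  refine Or.inr fun g hg => hx1 ?_
  have h1 := hFE _ (by simpa using (inferInstance : (Cfsg.fittingHall X).Normal).conj_mem x hx g⁻¹)
    (CfsgLib.Frobenius.mem_conj_smul_iff.mp hg)
  calc x = g * (g⁻¹ * x * g) * g⁻¹ := by group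
    _ = 1 := by rw [h1]; group

variable {G : Type u} [Group G] [Finite G] (hG : Cfsg.IsMinSimpleOddOrder G) (hI : Inputs G)
  {M : Subgroup G} (hM : IsCoatom M) {K U : Subgroup G} (hKU : Cfsg.IsSigmaDecomposition M K U)

include hKU in
theorem le_normalizer_U_sup : M ≤ Subgroup.normalizer ((U ⊔ Cfsg.sigmaCore M : Subgroup G) : Set G) := by
  conv_lhs => rw [← complIn_sup hKU.compl]
  refine sup_le (le_sup_left.trans Subgroup.le_normalizer) (sup_le (fun k hk => ?_)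
    (le_sup_right.trans Subgroup.le_normalizer))
  refine mem_normalizer_of_cj_eq ?_
  rw [show cj k (U ⊔ Cfsg.sigmaCore M) = cj k U ⊔ cj k (Cfsg.sigmaCore M) from Subgroup.map_sup _ _ _,
    cj_eq_of_mem_normalizer (hKU.normal hk),
    cj_eq_of_mem_normalizer (le_normalizer_sigmaCore M (hKU.hall.1 hk))]

include hG hI hM hKU in
/-- An element of `A(M)` outside `M_σ` has its centralizer in `M`. -/
theorem sigmaA_centralizer_le {a : G} (ha : a ∈ Cfsg.sigmaA M U) (haS : a ∉ Cfsg.sigmaCore M) :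
    Subgroup.centralizer ({a} : Set G) ≤ M := by
  obtain ⟨⟨haM, y, hy, hy1, hay⟩, haD⟩ := ha
  obtain ⟨c, b, rfl, hc, hb, hcσ, hbσ⟩ := exists_parts (Cfsg.sigma M) a
  have hcS : c ∈ Cfsg.sigmaCore M := Subgroup.zpowers_le.mp (le_sigmaCore hG hM
    (Subgroup.zpowers_le.mpr (Subgroup.zpowers_le.mpr haM hc))
    fun q hq hd => hcσ q hq (by rwa [Nat.card_zpowers] at hd))
  have hb1 : b ≠ 1 := fun h => haS (by rw [h, mul_one]; exact hcS)
  have hcomp : Cfsg.IsComplIn U (Cfsg.sigmaCore M) (U ⊔ Cfsg.sigmaCore M) :=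
    complIn_of_card le_sup_left le_sup_right
      (by rw [inf_comm]; exact decomp_U_inf_sigmaCore hG hM hKU) (decomp_card_sup hG hM hKU).symm
  have hle : U ⊔ Cfsg.sigmaCore M ≤ M := sup_le hKU.compl.1 (piCoreOf_le _ _)
  have := minSimple_solvable hG (H := U ⊔ Cfsg.sigmaCore M) fun h => hM.1 (top_le_iff.mp (h ▸ hle))
  have hbD : b ∈ U ⊔ Cfsg.sigmaCore M := Subgroup.zpowers_le.mpr haD hb
  obtain ⟨g, hg, hgU⟩ := OddOrder41.exists_conj_into (π := {q | q ∉ Cfsg.sigma M}) hcomp.1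
    (fun q hq hqσ hd => by
      rw [IsComplIn.relIndex_left hcomp] at hd
      exact hqσ (sigma_piNat M q hq hd))
    (Subgroup.zpowers_le.mpr hbD) fun q hq hd => hbσ q hq (by rwa [Nat.card_zpowers] at hd)
  have hgM : g ∈ M := hle hg
  set b' := g * b * g⁻¹ with hb'
  have hb'U : b' ∈ U := hgU (mem_cj_self.mpr (Subgroup.mem_zpowers b))
  have hyb : y ∈ Subgroup.centralizer ({b} : Set G) :=
    centralizer_le_of_mem_zpowers hb (Subgroup.mem_centralizer_singleton_iff.mpr hay.symm)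
  have hcy : Cfsg.sigmaCore M ⊓ Subgroup.centralizer ((Subgroup.zpowers b' : Subgroup G) : Set G) ≠ ⊥ := by
    intro h
    have h1 : g * y * g⁻¹ ∈
        Cfsg.sigmaCore M ⊓ Subgroup.centralizer ((Subgroup.zpowers b' : Subgroup G) : Set G) := by
      refine ⟨conj_mem_of_le_normalizer (le_normalizer_sigmaCore M) hgM hy, ?_⟩
      rw [OddOrder41.centralizer_zpowers, hb', ← Sigma11.cj_centralizer_singleton]
      exact mem_cj_self.mpr hyb
    rw [h, Subgroup.mem_bot] at h1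
    exact hy1 (conj_eq_one_iff.mp h1)
  obtain ⟨hC, -⟩ := hI.centralizerX M hM K U hKU (Subgroup.zpowers b') (Subgroup.zpowers_le.mpr hb'U)
    (Subgroup.zpowers_ne_bot.mpr fun h => hb1 (conj_eq_one_iff.mp h)) hcy
  rw [OddOrder41.centralizer_zpowers, hb', ← Sigma11.cj_centralizer_singleton] at hC
  refine (centralizer_le_of_mem_zpowers hb).trans ?_
  have h1 := cj_le_iff.mp hC
  rwa [cj_eq_of_mem_normalizer (Subgroup.le_normalizer (M.inv_mem hgM))] at h1

include hG hI hM hKU in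
/-- `C_G(z) = K K*` for `z ∈ Ẑ`. -/
theorem zSet_centralizer_le (hK1 : K ≠ ⊥) {z : G} (hz : z ∈ zSet M K) :
    Subgroup.centralizer ({z} : Set G) ≤ M := by
  obtain ⟨k, c, hk, hc, hk1, hc1, -, rfl⟩ := zSet_parts hG hI hM hKU hz
  obtain ⟨T, ⟨hT, hTK, hTH⟩, -⟩ := hI.partner M hM K U hKU hK1
  rw [((hI.pairCentralizer M hM K U hKU hK1 T hT hTK hTH).2.2.1 k hk hk1 c hc hc1).2.2]
  exact sup_le hKU.hall.1 (inf_le_left.trans (piCoreOf_le _ _))

include hG hI hM hKU in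
/-- The order of an element of `Ẑ` is not prime to `|K|`. -/
theorem zSet_not_coprime {z : G} (hz : z ∈ zSet M K) : ¬ (orderOf z).Coprime (Nat.card K) := by
  obtain ⟨k, c, hk, hc, hk1, -, hkc, rfl⟩ := zSet_parts hG hI hM hKU hz
  intro hcop
  have hkd := Subgroup.orderOf_dvd_natCard K hk
  have hco : (orderOf k).Coprime (orderOf c) := coprime_of_forall fun q hq d1 d2 =>
    (hKU.hall.2.1 q hq (d1.trans hkd)).2.2.1 (mem_sigma_of_mem_sigmaCore (Subgroup.mem_inf.mp hc).1 hq d2)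
  rw [hkc.orderOf_mul_eq_mul_orderOf_of_coprime hco] at hcop
  exact hk1 (orderOf_eq_one_iff.mp (Nat.eq_one_of_dvd_coprimes hcop (dvd_mul_right _ _) hkd))

include hG hI hM hKU in
theorem sigmaA_coprime {a : G} (ha : a ∈ Cfsg.sigmaA M U) : (orderOf a).Coprime (Nat.card K) := by
  have h := (decomp_coprime hG hM hKU).symm
  rw [← decomp_card_sup hG hM hKU] at h
  exact h.coprime_dvd_left (Subgroup.orderOf_dvd_natCard _ ha.2)

include hG hI hM hKU in
/-- The three kinds of elements of `A₀(M)`. -/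
theorem typeA0_cases {X : Set G} (hX : X = PF.setA M ∨ X = PF.setA0 M) {x : G} (hx : x ∈ X) :
    x ∈ M ∧ x ≠ 1 ∧ (x ∈ Cfsg.sigmaA M U ∨ K ≠ ⊥ ∧ ∃ m ∈ M, ∃ z ∈ zSet M K, x = m * z * m⁻¹) := by
  have h : x ∈ PF.setA0 M := by
    rcases hX with rfl | rfl
    · rw [setA0_eq hG hI hM hKU]
      exact Or.inl hx
    · exact hx
  rw [setA0_eq hG hI hM hKU, setA_eq hG hI hM hKU] at h
  rcases h with ⟨ha, ha1⟩ | ⟨hK1, m, hm, z, hz, rfl⟩
  · exact ⟨ha.1.1, ha1, Or.inl ha⟩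
  · refine ⟨M.mul_mem (M.mul_mem hm ?_) (M.inv_mem hm), fun h1 => ?_,
      Or.inr ⟨hK1, m, hm, z, hz, rfl⟩⟩
    · exact (sup_le hKU.hall.1 (inf_le_left.trans (piCoreOf_le _ _)) :
        K ⊔ (Cfsg.sigmaCore M ⊓ Subgroup.centralizer (K : Set G)) ≤ M) hz.1
    · exact hz.2 (Or.inl (by rw [conj_eq_one_iff.mp h1]; exact K.one_mem))

include hG hI hM hKU in
/-- Elements with centralizer outside `M` lie in `M_σ`. -/
theorem mem_sigmaCore_of_centralizer {X : Set G} (hX : X = PF.setA M ∨ X = PF.setA0 M) {x : G}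
    (hx : x ∈ X) (hC : ¬ Subgroup.centralizer ({x} : Set G) ≤ M) : x ∈ Cfsg.sigmaCore M ∧ x ≠ 1 := by
  obtain ⟨-, hx1, hcase⟩ := typeA0_cases hG hI hM hKU hX hx
  refine ⟨?_, hx1⟩
  rcases hcase with ha | ⟨hK1, m, hm, z, hz, rfl⟩
  · by_contra hS
    exact hC (sigmaA_centralizer_le hG hI hM hKU ha hS)
  · refine absurd ?_ hC
    rw [← Sigma11.cj_centralizer_singleton]
    exact (cj_mono (zSet_centralizer_le hG hI hM hKU hK1 hz)).trans
      (cj_eq_of_mem_normalizer (Subgroup.le_normalizer hm)).le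

include hG hI hM hKU in
/-- Fusion in `A₀(M)`. -/
theorem typeA0_fusion {X : Set G} (hX : X = PF.setA M ∨ X = PF.setA0 M) :
    ∀ x ∈ X, ∀ g : G, g * x * g⁻¹ ∈ X → ∃ m ∈ M, m * x * m⁻¹ = g * x * g⁻¹ := by
  intro x hx g hgx
  obtain ⟨hxM, hx1, hcx⟩ := typeA0_cases hG hI hM hKU hX hx
  obtain ⟨hyM, -, hcy⟩ := typeA0_cases hG hI hM hKU hX hgx
  have hord : orderOf (g * x * g⁻¹) = orderOf x := by rw [← MulAut.conj_apply, MulEquiv.orderOf_eq]
  have hσmem : ∀ {y : G}, y ∈ M → orderOf y = orderOf x → x ∈ Cfsg.sigmaCore M → y ∈ Cfsg.sigmaCore M :=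
    fun hy he hxS => Subgroup.zpowers_le.mp (le_sigmaCore hG hM (Subgroup.zpowers_le.mpr hy)
      fun q hq hd => mem_sigma_of_mem_sigmaCore hxS hq (by rwa [Nat.card_zpowers, he] at hd))
  by_cases hxS : x ∈ Cfsg.sigmaCore M
  · have hS1 : Cfsg.sigmaCore M ≠ ⊥ := fun h => hx1 (by rw [h] at hxS; exact Subgroup.mem_bot.mp hxS)
    obtain ⟨n, hn, he⟩ := (hI.hallFusion M hM _ le_rfl hS1
      (by rw [Subgroup.relIndex_self]; exact Nat.coprime_one_right _)).2 x hxS g (hσmem hyM hord hxS)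
    exact ⟨n, (Subgroup.mem_inf.mp hn).1, he⟩
  refine ⟨g, ?_, rfl⟩
  have hyS : g * x * g⁻¹ ∉ Cfsg.sigmaCore M := fun h => hxS (Subgroup.zpowers_le.mp
    (le_sigmaCore hG hM (Subgroup.zpowers_le.mpr hxM) fun q hq hd =>
      mem_sigma_of_mem_sigmaCore h hq (by rwa [Nat.card_zpowers, ← hord] at hd)))
  rcases hcx with ha | ⟨hK1, m, hm, z, hz, rfl⟩
  · rcases hcy with hb | ⟨-, m', -, z', hz', he⟩
    · set T := Cfsg.sigmaA M U \ (Cfsg.sigmaCore M : Set G) with hT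
      have hMT : ∀ m ∈ M, ∀ t ∈ T, m * t * m⁻¹ ∈ T := by
        rintro m hm t ⟨⟨⟨htM, y, hy, hy1, hty⟩, htD⟩, htS⟩
        refine ⟨⟨⟨M.mul_mem (M.mul_mem hm htM) (M.inv_mem hm), m * y * m⁻¹,
          conj_mem_of_le_normalizer (le_normalizer_sigmaCore M) hm hy,
          fun h => hy1 (conj_eq_one_iff.mp h), ?_⟩,
          conj_mem_of_le_normalizer (le_normalizer_U_sup hKU) hm htD⟩, fun h => htS ?_⟩
        · calc m * t * m⁻¹ * (m * y * m⁻¹) = m * (t * y) * m⁻¹ := by group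
            _ = m * (y * t) * m⁻¹ := by rw [hty]
            _ = m * y * m⁻¹ * (m * t * m⁻¹) := by group
        · simpa [mul_assoc] using
            conj_mem_of_le_normalizer (le_normalizer_sigmaCore M) (M.inv_mem hm) h
      have hle : M ≤ Subgroup.normalizer T := by
        intro m hm t
        refine ⟨hMT m hm t, fun h => ?_⟩
        simpa [mul_assoc] using hMT m⁻¹ (M.inv_mem hm) _ h
      have hne : Subgroup.normalizer T ≠ ⊤ := by
        intro htop
        have h1 : Subgroup.normalClosure ({x} : Set G) ≤ M := by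
          rw [Subgroup.normalClosure, Subgroup.closure_le]
          intro w hw
          obtain ⟨t, ht, htw⟩ := Group.mem_conjugatesOfSet_iff.mp hw
          rw [Set.mem_singleton_iff] at ht
          rw [ht] at htw
          obtain ⟨v, rfl⟩ := isConj_iff.mp htw
          exact ((htop.ge (Subgroup.mem_top v) x).mp ⟨ha, hxS⟩).1.1.1
        rcases minSimple_eq_bot_or_top hG (N := Subgroup.normalClosure ({x} : Set G))
          Subgroup.normalClosure_normal with h2 | h2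
        · exact hx1 (Subgroup.mem_bot.mp (h2 ▸ Subgroup.subset_normalClosure rfl))
        · exact hM.1 (top_le_iff.mp (h2 ▸ h1))
      by_contra hg
      have hgT : g ∉ Subgroup.normalizer T := fun h => hg ((hM.le_iff.mp hle).resolve_left hne ▸ h)
      exact hx1 (hI.tIA M hM K U hKU g hgT x ⟨ha, hxS⟩ ⟨hb, hyS⟩)
    · refine absurd ?_ (zSet_not_coprime hG hI hM hKU hz')
      have h := sigmaA_coprime hG hI hM hKU ha
      rwa [← hord, he, ← MulAut.conj_apply, MulEquiv.orderOf_eq] at h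
  · rcases hcy with hb | ⟨-, m', hm', z', hz', he⟩
    · refine absurd ?_ (zSet_not_coprime hG hI hM hKU hz)
      have h := sigmaA_coprime hG hI hM hKU hb
      rwa [hord, ← MulAut.conj_apply, MulEquiv.orderOf_eq] at h
    · obtain ⟨hTI, hN⟩ := hI.zHat M hM K U hKU hK1
      set g' := m'⁻¹ * g * m with hg'
      have he' : g' * z * g'⁻¹ = z' := by
        calc g' * z * g'⁻¹ = m'⁻¹ * (g * (m * z * m⁻¹) * g⁻¹) * m' := by rw [hg']; group
          _ = m'⁻¹ * (m' * z' * m'⁻¹) * m' := by rw [he]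
          _ = z' := by group
      have hg'M : g' ∈ M := by
        refine (sup_le hKU.hall.1 (inf_le_left.trans (piCoreOf_le _ _)) :
          K ⊔ (Cfsg.sigmaCore M ⊓ Subgroup.centralizer (K : Set G)) ≤ M) (hN.le ?_)
        by_contra hn
        have h1 := hTI g' hn z hz (he' ▸ hz')
        exact hz.2 (Or.inl (h1 ▸ K.one_mem))
      have : g = m' * g' * m⁻¹ := by rw [hg']; group
      rw [this]
      exact M.mul_mem (M.mul_mem hm' hg'M) (M.inv_mem hm)

include hG hI hM hKU in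
/-- BG Theorem II: the supports. -/
theorem tame_support {X : Set G} (hX : X = PF.setA M ∨ X = PF.setA0 M) :
    ∀ x ∈ X, ¬ Subgroup.centralizer ({x} : Set G) ≤ M → ∀ L : Subgroup G, IsCoatom L → Subgroup.centralizer ({x} : Set G) ≤ L →
      Cfsg.IsComplIn (Cfsg.fittingHallOf L) (M ⊓ L) L ∧
      Subgroup.centralizer ({x} : Set G) ≤ Subgroup.normalizer ((Cfsg.fittingHallOf L ⊓ Subgroup.centralizer ({x} : Set G) : Subgroup G) : Set G) ∧
      Cfsg.IsComplIn (Cfsg.fittingHallOf L ⊓ Subgroup.centralizer ({x} : Set G)) (M ⊓ Subgroup.centralizer ({x} : Set G)) (Subgroup.centralizer ({x} : Set G)) ∧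
      (∀ y ∈ X, (Nat.card (Cfsg.fittingHallOf L)).Coprime (Nat.card ↥(M ⊓ Subgroup.centralizer ({y} : Set G)))) ∧
      (x ∈ PF.setA L ∧ x ∉ PF.setA1 L) ∧
      (PF.OfTypeI L ∨ Cfsg.IsOfTypeII L) ∧
      (Cfsg.IsOfTypeII L → ∃ E : Subgroup ↥M, Cfsg.IsFrobeniusComplement E ∧ Cfsg.frobeniusKernel E = ((Cfsg.fittingHall ↥M : Subgroup ↥M) : Set ↥M)) := by
  intro x hx hC L hL hCL
  obtain ⟨hxS, hx1⟩ := mem_sigmaCore_of_centralizer hG hI hM hKU hX hx hC
  obtain ⟨N, ⟨hN, -⟩, huniq, hNF, hnorm, hc, hcN, hA⟩ := hI.support M hM x hxS hx1 hC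
  obtain rfl := huniq L hL hCL
  obtain ⟨K', U', hd⟩ := exists_decomp hG hI hL
  obtain ⟨hU', hxA, hxnot⟩ := hA K' U' hd
  rw [← hNF]
  refine ⟨complIn_symm hcN, hnorm, complIn_symm hc, fun y hy => ?_,
    ⟨?_, fun h => hxnot ?_⟩, ?_, fun hII => ?_⟩
  · refine coprime_of_forall fun q hq h1 h2 => ?_
    have hqL := sigma_piNat L q hq h1
    obtain ⟨hκ, hτ⟩ := (hI.supportConj M hM x hxS hx1 hC L hL hCL).1
      ⟨q, hqL, h2.trans (Subgroup.card_dvd_of_le inf_le_left)⟩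
    have hK : K = ⊥ := (kappa_eq_empty_iff hKU.hall).mp hκ
    have key : ∀ {w v : G}, w ∈ Cfsg.sigmaCore M → w ≠ 1 → v ∈ M → Commute v w →
        (∀ r : ℕ, r.Prime → r ∣ orderOf v → r ∉ Cfsg.sigma M) → v = 1 := by
      intro w v hw hw1 hv hvw hvσ
      by_contra hv1
      obtain ⟨r, hr, hrd⟩ := Nat.exists_prime_and_dvd (n := orderOf v)
        fun e => hv1 (orderOf_eq_one_iff.mp e)
      rcases hI.dichotomy M hM w hw hw1 v ⟨hv, Subgroup.mem_centralizer_singleton_iff.mpr hvw.eq⟩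
        hv1 hvσ with ⟨h, -⟩ | ⟨h, -, -⟩
      · have h3 := h r hr hrd
        rw [hκ] at h3
        exact h3
      · have h3 := h r hr hrd
        rw [hτ] at h3
        exact h3
    obtain ⟨-, hy1, hcase⟩ := typeA0_cases hG hI hM hKU hX hy
    have hyA : y ∈ Cfsg.sigmaA M U := hcase.resolve_right fun h => h.1 hK
    obtain ⟨⟨hyM, w, hw, hw1, hyw⟩, -⟩ := hyA
    have hyS : y ∈ Cfsg.sigmaCore M := by
      obtain ⟨a, b, rfl, ha, hb, haσ, hbσ⟩ := exists_parts (Cfsg.sigma M) y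
      have hb1 : b = 1 := key hw hw1 (Subgroup.zpowers_le.mpr hyM hb)
        (Subgroup.mem_centralizer_singleton_iff.mp (centralizer_le_of_mem_zpowers hb
          (Subgroup.mem_centralizer_singleton_iff.mpr hyw.symm))).symm hbσ
      rw [hb1, mul_one]
      exact Subgroup.zpowers_le.mp (le_sigmaCore hG hM
        (Subgroup.zpowers_le.mpr (Subgroup.zpowers_le.mpr hyM ha))
        fun r hr hd' => haσ r hr (by rwa [Nat.card_zpowers] at hd'))
    have := Fact.mk hq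
    obtain ⟨⟨v, hv⟩, hvo⟩ := exists_prime_orderOf_dvd_card'
      (G := ↥(M ⊓ Subgroup.centralizer ({y} : Set G))) q h2
    rw [Subgroup.orderOf_mk] at hvo
    by_cases hqM : q ∈ Cfsg.sigma M
    · have heq := sigma_eq_of_sigma hI.disjoint hM hL hqM hqL
      have hxML : x ∈ M ⊓ L := ⟨piCoreOf_le _ _ hxS, hCL (self_mem_centralizer x)⟩
      refine hxnot (Subgroup.zpowers_le.mp (le_sigmaCore hG hL
        (Subgroup.zpowers_le.mpr (Subgroup.mem_inf.mp hxML).2) fun r hr hd' => heq ▸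
          mem_sigma_of_mem_sigmaCore hxS hr (by rwa [Nat.card_zpowers] at hd')))
    · have h3 := key hyS hy1 (Subgroup.mem_inf.mp hv).1
        (Subgroup.mem_centralizer_singleton_iff.mp (Subgroup.mem_inf.mp hv).2) fun r hr hd' => by
          rw [hvo] at hd'
          rwa [(Nat.prime_dvd_prime_iff_eq hr hq).mp hd']
      rw [h3, orderOf_one] at hvo
      exact hq.ne_one hvo.symm
  · rw [setA_eq hG hI hL hd]
    exact ⟨hxA, hx1⟩
  · exact h.1
  · by_cases hK' : K' = ⊥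
    · exact Or.inl (type1_of hG hI hL hd hK')
    · exact Or.inr (typeII_of hG hI hL hd hK' hU')
  · obtain ⟨-, ⟨E, hE, -⟩, -⟩ := hI.supportFrobenius M hM x hxS hx1 hC L hL hCL
      (kappa_nonempty_of_hall hd.hall ((typeII_iff hG hI hL hd).mp hII).1)
    exact ⟨E, hE, frobeniusKernel_eq_fittingHall hE⟩

include hG hI hM in
/-- BG Theorem II, on the choice-free sets. -/
theorem tame_embedding_sets (X : Set G) (hX : X = PF.setA M ∨ X = PF.setA0 M) :
    (∀ x ∈ X, ∀ g : G, g * x * g⁻¹ ∈ X → ∃ m ∈ M, m * x * m⁻¹ = g * x * g⁻¹) ∧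
      (∀ x ∈ X, ¬ Subgroup.centralizer ({x} : Set G) ≤ M → x ∈ PF.setA1 M ∧ ∃! L : Subgroup G, IsCoatom L ∧ Subgroup.centralizer ({x} : Set G) ≤ L) ∧
      ∀ x ∈ X, ¬ Subgroup.centralizer ({x} : Set G) ≤ M → ∀ L : Subgroup G, IsCoatom L → Subgroup.centralizer ({x} : Set G) ≤ L →
        Cfsg.IsComplIn (Cfsg.fittingHallOf L) (M ⊓ L) L ∧
        Subgroup.centralizer ({x} : Set G) ≤ Subgroup.normalizer ((Cfsg.fittingHallOf L ⊓ Subgroup.centralizer ({x} : Set G) : Subgroup G) : Set G) ∧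
        Cfsg.IsComplIn (Cfsg.fittingHallOf L ⊓ Subgroup.centralizer ({x} : Set G)) (M ⊓ Subgroup.centralizer ({x} : Set G)) (Subgroup.centralizer ({x} : Set G)) ∧
        (∀ y ∈ X, (Nat.card (Cfsg.fittingHallOf L)).Coprime (Nat.card ↥(M ⊓ Subgroup.centralizer ({y} : Set G)))) ∧
        (x ∈ PF.setA L ∧ x ∉ PF.setA1 L) ∧
        (PF.OfTypeI L ∨ Cfsg.IsOfTypeII L) ∧
        (Cfsg.IsOfTypeII L → ∃ E : Subgroup ↥M, Cfsg.IsFrobeniusComplement E ∧ Cfsg.frobeniusKernel E = ((Cfsg.fittingHall ↥M : Subgroup ↥M) : Set ↥M)) := by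
  obtain ⟨K, U, hKU⟩ := exists_decomp hG hI hM
  refine ⟨typeA0_fusion hG hI hM hKU hX, fun x hx hC => ?_, tame_support hG hI hM hKU hX⟩
  obtain ⟨hxS, hx1⟩ := mem_sigmaCore_of_centralizer hG hI hM hKU hX hx hC
  obtain ⟨L, ⟨hL, hCL⟩, huniq, -⟩ := hI.support M hM x hxS hx1 hC
  exact ⟨⟨hxS, hx1⟩, L, ⟨hL, hCL⟩, fun L' hL' => huniq L' hL'.1 hL'.2⟩

include hG hI hM in
/-- The sets of `M` in both descriptions. -/
theorem typeA_sets (hT : Cfsg.kappa M = ∅ → Cfsg.IsOfTypeI M) :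
    Cfsg.typeA M = PF.setA M ∧ Cfsg.typeA0 M = PF.setA0 M := by
  obtain ⟨K, U, hKU⟩ := exists_decomp hG hI hM
  have hA : Cfsg.typeA M = PF.setA M :=
    (typeA_eq hG hI hM hKU fun hK => hT ((kappa_eq_empty_iff hKU.hall).mpr hK)).trans
      (setA_eq hG hI hM hKU).symm
  exact ⟨hA, by rw [typeA0_eq hG hI hM hKU, setA0_eq hG hI hM hKU, hA]⟩

include hG hI hM in
/-- BG Theorem II. -/
theorem tame_embedding (hFr : PropKappaFrobenius G) (X : Set G) (hX : X = Cfsg.typeA M ∨ X = Cfsg.typeA0 M) :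
    (∀ x ∈ X, ∀ g : G, g * x * g⁻¹ ∈ X → ∃ m ∈ M, m * x * m⁻¹ = g * x * g⁻¹) ∧
      (∀ x ∈ X, ¬ Subgroup.centralizer ({x} : Set G) ≤ M → x ∈ Cfsg.typeA1 M ∧ ∃! L : Subgroup G, IsCoatom L ∧ Subgroup.centralizer ({x} : Set G) ≤ L) ∧
      ∀ x ∈ X, ¬ Subgroup.centralizer ({x} : Set G) ≤ M → ∀ L : Subgroup G, IsCoatom L → Subgroup.centralizer ({x} : Set G) ≤ L →
        Cfsg.IsComplIn (Cfsg.fittingHallOf L) (M ⊓ L) L ∧
        Subgroup.centralizer ({x} : Set G) ≤ Subgroup.normalizer ((Cfsg.fittingHallOf L ⊓ Subgroup.centralizer ({x} : Set G) : Subgroup G) : Set G) ∧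
        Cfsg.IsComplIn (Cfsg.fittingHallOf L ⊓ Subgroup.centralizer ({x} : Set G)) (M ⊓ Subgroup.centralizer ({x} : Set G)) (Subgroup.centralizer ({x} : Set G)) ∧
        (∀ y ∈ X, (Nat.card (Cfsg.fittingHallOf L)).Coprime (Nat.card ↥(M ⊓ Subgroup.centralizer ({y} : Set G)))) ∧
        (x ∈ Cfsg.typeA L ∧ x ∉ Cfsg.typeA1 L) ∧
        (Cfsg.IsOfTypeI L ∨ Cfsg.IsOfTypeII L) ∧
        (Cfsg.IsOfTypeII L → ∃ E : Subgroup ↥M, Cfsg.IsFrobeniusComplement E ∧ Cfsg.frobeniusKernel E = ((Cfsg.fittingHall ↥M : Subgroup ↥M) : Set ↥M)) := by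
  have hstrict : ∀ L : Subgroup G, IsCoatom L → Cfsg.kappa L = ∅ → Cfsg.IsOfTypeI L := fun L hL h => by
    obtain ⟨K, U, hKU⟩ := exists_decomp hG hI hL
    exact typeI_of hG hI hL hKU ((kappa_eq_empty_iff hKU.hall).mp h) hFr
  obtain ⟨hA, hA0⟩ := typeA_sets hG hI hM (hstrict M hM)
  obtain ⟨h1, h2, h3⟩ := tame_embedding_sets hG hI hM X (by rwa [← hA, ← hA0])
  refine ⟨h1, fun x hx hC => ?_, fun x hx hC L hL hCL => ?_⟩
  · rw [typeA1_eq hG hI hM]
    exact h2 x hx hC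
  obtain ⟨a, b, c, d, e, f, g⟩ := h3 x hx hC L hL hCL
  refine ⟨a, b, c, d, ?_, f.imp_left fun h => ?_, g⟩
  · rw [(typeA_sets hG hI hL (hstrict L hL)).1, typeA1_eq hG hI hL]
    exact e
  · obtain ⟨K', U', hd⟩ := exists_decomp hG hI hL
    by_cases hK' : K' = ⊥
    · exact typeI_of hG hI hL hd hK' hFr
    · obtain ⟨V, hP⟩ := exists_typeP hG hI hL hd hK'
      exact absurd h.1 (not_typeF_of_typeP hG hI hL hP)

end CfsgLib.OddOrder42
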